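import Mathlib

/-!
A space of invertible matrices over `𝔽₂` of full dimension, containing the identity and closed
under `(a, b) ↦ a b a`, is commutative.
-/

set_option autoImplicit false

namespace Cfsg.Agent.TI1786

open Matrix Polynomial

variable {n : ℕ}

section Generic

variable (t : Fin n → Matrix (Fin n) (Fin n) (ZMod 2))

/-- The generic element of the span of `t`. -/
noncomputable def genElt : Matrix (Fin n) (Fin n) (MvPolynomial (Fin n) (ZMod 2)) :=
  ∑ i, (MvPolynomial.X i : MvPolynomial (Fin n) (ZMod 2)) •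
    (t i).map (MvPolynomial.C (σ := Fin n) (R := ZMod 2))

theorem genElt_totalDegree (a b : Fin n) : (genElt t a b).totalDegree ≤ 1 := by
  simp only [genElt, Matrix.sum_apply, Matrix.smul_apply, Matrix.map_apply, smul_eq_mul]
  refine MvPolynomial.totalDegree_finsetSum_le fun i _ => ?_
  refine (MvPolynomial.totalDegree_mul _ _).trans ?_
  rw [MvPolynomial.totalDegree_X, MvPolynomial.totalDegree_C]

theorem det_genElt_totalDegree : (genElt t).det.totalDegree ≤ n := by
  rw [Matrix.det_apply]
  refine MvPolynomial.totalDegree_finsetSum_le fun σ _ => ?_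
  refine (MvPolynomial.totalDegree_smul_le _ _).trans ?_
  refine (MvPolynomial.totalDegree_finset_prod _ _).trans ?_
  refine (Finset.sum_le_sum fun i _ => genElt_totalDegree t (σ i) i).trans ?_
  simp

theorem genElt_eval (v : Fin n → ZMod 2) :
    (genElt t).map (MvPolynomial.eval v) = ∑ i, v i • t i := by
  ext a b
  simp [genElt, Matrix.sum_apply, map_sum]

end Generic

theorem comm_of_jordan (T : Submodule (ZMod 2) (Matrix (Fin n) (Fin n) (ZMod 2)))
    (h1 : (1 : Matrix (Fin n) (Fin n) (ZMod 2)) ∈ T)
    (hinv : ∀ a ∈ T, a ≠ 0 → IsUnit a)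
    (hU : ∀ a ∈ T, ∀ b ∈ T, a * b * a ∈ T)
    (hdim : Module.finrank (ZMod 2) T = n) :
    ∀ a ∈ T, ∀ b ∈ T, a * b = b * a := by
  classical
  rcases Nat.eq_zero_or_pos n with hn | hn
  · subst hn
    intro a _ b _
    exact Subsingleton.elim _ _
  haveI : Fact (Nat.Prime 2) := ⟨Nat.prime_two⟩
  haveI : Nonempty (Fin n) := ⟨⟨0, hn⟩⟩
  let B := Module.finBasisOfFinrankEq (ZMod 2) T hdim
  let t : Fin n → Matrix (Fin n) (Fin n) (ZMod 2) := fun i => (B i : Matrix (Fin n) (Fin n) (ZMod 2))
  have ht : ∀ i, t i ∈ T := fun i => (B i).2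
  have hrep : ∀ a ∈ T, ∃ v : Fin n → ZMod 2, ∑ i, v i • t i = a := by
    intro a ha
    refine ⟨fun i => B.repr ⟨a, ha⟩ i, ?_⟩
    have := congrArg T.subtype (B.sum_repr ⟨a, ha⟩)
    rw [map_sum] at this
    exact this
  have hind : ∀ v : Fin n → ZMod 2, ∑ i, v i • t i = 0 → v = 0 := by
    intro v hv
    have h0 : ∑ i, v i • B i = 0 := Subtype.ext (by simpa [t] using hv)
    exact funext (Fintype.linearIndependent_iff.1 B.linearIndependent v h0)
  let R := MvPolynomial (Fin n) (ZMod 2)
  let F := FractionRing R
  let M : Matrix (Fin n) (Fin n) R := genElt t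
  let MF : Matrix (Fin n) (Fin n) F := M.map (algebraMap R F)
  have hMF : IsIntegral F MF := Matrix.isIntegral MF
  have hdvd : minpoly F MF ∣ M.charpoly.map (algebraMap R F) := by
    rw [← Matrix.charpoly_map]; exact Matrix.minpoly_dvd_charpoly MF
  have hrle : (minpoly F MF).natDegree ≤ n := by
    have := natDegree_le_of_dvd (Matrix.minpoly_dvd_charpoly MF) (Matrix.charpoly_monic MF).ne_zero
    simpa [Matrix.charpoly_natDegree_eq_dim] using this
  rcases eq_or_lt_of_le hrle with hr | hr
  · -- the powers of the generic element span the generic span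
    let φ : ZMod 2 →+* F := (algebraMap R F).comp MvPolynomial.C
    let ψ : Matrix (Fin n) (Fin n) (ZMod 2) →+* Matrix (Fin n) (Fin n) F := φ.mapMatrix
    let x : Fin n → F := fun i => algebraMap R F (MvPolynomial.X i)
    let S : Submodule F (Matrix (Fin n) (Fin n) F) := Submodule.span F (Set.range fun i => ψ (t i))
    have hψS : ∀ a ∈ T, ψ a ∈ S := by
      intro a ha
      obtain ⟨v, rfl⟩ := hrep a ha
      rw [map_sum]
      refine Submodule.sum_mem _ fun i _ => ?_
      have : ψ (v i • t i) = φ (v i) • ψ (t i) := by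
        ext a b; simp [ψ, RingHom.mapMatrix_apply]
      rw [this]
      exact S.smul_mem _ (Submodule.subset_span ⟨i, rfl⟩)
    have hMFx : MF = ∑ i, x i • ψ (t i) := by
      ext a b
      simp only [MF, M, genElt, Matrix.map_apply, Matrix.sum_apply, Matrix.smul_apply, smul_eq_mul,
        map_sum, map_mul, ψ, x, φ, RingHom.mapMatrix_apply, RingHom.comp_apply]
    have hlin : ∀ a ∈ T, ∀ c ∈ T, ∀ y ∈ T, a * y * c + c * y * a ∈ T := by
      intro a ha c hc y hy
      have h := T.sub_mem (T.sub_mem (hU (a + c) (T.add_mem ha hc) y hy) (hU a ha y hy)) (hU c hc y hy)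
      have e : (a + c) * y * (a + c) - a * y * a - c * y * c = a * y * c + c * y * a := by noncomm_ring
      rwa [e] at h
    have hUS : ∀ y ∈ T, ∀ s : Finset (Fin n),
        (∑ i ∈ s, x i • ψ (t i)) * ψ y * (∑ i ∈ s, x i • ψ (t i)) ∈ S := by
      intro y hy s
      induction s using Finset.induction_on with
      | empty => simp
      | @insert a s has ih =>
        rw [Finset.sum_insert has]
        set u := ∑ i ∈ s, x i • ψ (t i) with hu
        have e : (x a • ψ (t a) + u) * ψ y * (x a • ψ (t a) + u) =
            (x a * x a) • ψ (t a * y * t a) +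
              x a • (ψ (t a) * ψ y * u + u * ψ y * ψ (t a)) + u * ψ y * u := by
          simp only [map_mul, add_mul, mul_add, smul_mul_assoc, mul_smul_comm, smul_smul, smul_add]
          abel
        rw [e]
        refine S.add_mem (S.add_mem (S.smul_mem _ (hψS _ (hU _ (ht a) _ hy))) (S.smul_mem _ ?_)) ih
        have e2 : ψ (t a) * ψ y * u + u * ψ y * ψ (t a) =
            ∑ i ∈ s, x i • ψ (t a * y * t i + t i * y * t a) := by
          rw [hu, Finset.mul_sum, Finset.sum_mul, Finset.sum_mul, ← Finset.sum_add_distrib]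
          refine Finset.sum_congr rfl fun i _ => ?_
          simp only [map_add, map_mul, smul_add, smul_mul_assoc, mul_smul_comm]
        rw [e2]
        exact S.sum_mem fun i _ => S.smul_mem _ (hψS _ (hlin _ (ht a) _ (ht i) _ hy))
    have hMSM : ∀ z ∈ S, MF * z * MF ∈ S := by
      intro z hz
      induction hz using Submodule.span_induction with
      | mem z hz =>
        obtain ⟨i, rfl⟩ := hz
        rw [hMFx]
        exact hUS _ (ht i) _
      | zero => simp
      | add u v _ _ hu hv => rw [mul_add, add_mul]; exact S.add_mem hu hv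
      | smul c u _ hu => rw [mul_smul_comm, smul_mul_assoc]; exact S.smul_mem _ hu
    have hpow : ∀ k : ℕ, MF ^ k ∈ S := by
      intro k
      induction k using Nat.strong_induction_on with
      | _ k ih =>
        match k with
        | 0 => simpa using hψS 1 h1
        | 1 =>
          rw [pow_one, hMFx]
          exact S.sum_mem fun i _ => S.smul_mem _ (Submodule.subset_span ⟨i, rfl⟩)
        | k + 2 =>
          have := hMSM _ (ih k (by omega))
          rwa [← pow_succ', ← pow_succ] at this
    have hli : LinearIndependent F fun i : Fin (minpoly F MF).natDegree => MF ^ (i : ℕ) :=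
      linearIndependent_pow MF
    have hle : Submodule.span F (Set.range fun i : Fin (minpoly F MF).natDegree => MF ^ (i : ℕ)) ≤ S :=
      Submodule.span_le.2 (by rintro _ ⟨i, rfl⟩; exact hpow i)
    have heq := Submodule.eq_of_le_of_finrank_le hle (by
      rw [finrank_span_eq_card hli, Fintype.card_fin, hr]
      exact (finrank_range_le_card (fun i => ψ (t i))).trans (le_of_eq (Fintype.card_fin n)))
    have hSA : S ≤ Subalgebra.toSubmodule (Algebra.adjoin F ({MF} : Set (Matrix (Fin n) (Fin n) F))) := by
      rw [← heq, Submodule.span_le]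
      rintro _ ⟨i, rfl⟩
      exact (Algebra.adjoin F _).pow_mem (Algebra.self_mem_adjoin_singleton F MF) _
    intro a ha b hb
    have hψinj : Function.Injective ψ := fun p q h => by
      ext i j
      have := congrFun (congrFun h i) j
      simp only [ψ, RingHom.mapMatrix_apply, Matrix.map_apply] at this
      exact φ.injective this
    apply hψinj
    rw [map_mul, map_mul]
    have hc := Algebra.commute_of_mem_adjoin_singleton_of_commute (hSA (hψS b hb))
      (show Commute (ψ a) MF from (Algebra.commute_of_mem_adjoin_singleton_of_commute (hSA (hψS a ha))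
        (Commute.refl MF)).symm)
    exact hc
  · -- otherwise the constant term of the minimal polynomial is a form of small degree
    exfalso
    have hmon : (minpoly F MF).Monic := minpoly.monic hMF
    obtain ⟨m, hm⟩ := IsIntegrallyClosed.eq_map_mul_C_of_dvd F (Matrix.charpoly_monic M) hdvd
    rw [hmon.leadingCoeff, map_one, mul_one] at hm
    have hmm : m.Monic := by
      have := hmon
      rw [← hm] at this
      exact monic_of_injective (IsFractionRing.injective R F) this
    have hmdeg : m.natDegree = (minpoly F MF).natDegree := by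
      rw [← hm, hmm.natDegree_map]
    have hmdvd : m ∣ M.charpoly := by
      refine (map_dvd_map (algebraMap R F) (IsFractionRing.injective R F) hmm).1 ?_
      rw [hm]; exact hdvd
    obtain ⟨g, hg⟩ := hmdvd
    have hmpos : 0 < m.natDegree := by rw [hmdeg]; exact minpoly.natDegree_pos hMF
    have hgmon : g.Monic := hmm.of_mul_monic_left (hg ▸ Matrix.charpoly_monic M)
    have hgdeg : m.natDegree + g.natDegree = n := by
      rw [← hmm.natDegree_mul hgmon, ← hg, Matrix.charpoly_natDegree_eq_dim, Fintype.card_fin]
    have hgpos : 0 < g.natDegree := by omega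
    have hdet : M.det = (-1) ^ n * (m.coeff 0 * g.coeff 0) := by
      rw [Matrix.det_eq_sign_charpoly_coeff, hg, mul_coeff_zero, Fintype.card_fin]
    -- specialising at a vector
    have hspec : ∀ v : Fin n → ZMod 2,
        (∑ i, v i • t i).det = (-1) ^ n * (MvPolynomial.eval v (m.coeff 0) * MvPolynomial.eval v (g.coeff 0)) := by
      intro v
      rw [← genElt_eval, ← RingHom.mapMatrix_apply, ← RingHom.map_det]
      change MvPolynomial.eval v M.det = _
      rw [hdet, map_mul, map_mul, map_pow, map_neg, map_one]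
    have hne : ∀ v : Fin n → ZMod 2, v ≠ 0 → (∑ i, v i • t i).det ≠ 0 := by
      intro v hv
      have hu := hinv _ (T.sum_mem fun i _ => T.smul_mem _ (ht i)) fun h => hv (hind v h)
      exact ((Matrix.isUnit_iff_isUnit_det _).1 hu).ne_zero
    -- both constant terms vanish at the origin
    have h0 : ∀ p : R[X], p.Monic → 0 < p.natDegree → p ∣ M.charpoly →
        MvPolynomial.eval (0 : Fin n → ZMod 2) (p.coeff 0) = 0 := by
      intro p hp hpd hpdvd
      have hM0 : M.map (MvPolynomial.eval (0 : Fin n → ZMod 2)) = 0 := by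
        rw [genElt_eval]; simp
      have hX : p.map (MvPolynomial.eval (0 : Fin n → ZMod 2)) ∣ (Polynomial.X : (ZMod 2)[X]) ^ n := by
        have := Polynomial.map_dvd (MvPolynomial.eval (0 : Fin n → ZMod 2)) hpdvd
        rwa [← Matrix.charpoly_map, hM0, Matrix.charpoly_zero, Fintype.card_fin] at this
      obtain ⟨j, -, hj⟩ := (dvd_prime_pow Polynomial.prime_X n).1 hX
      have hj' := eq_of_monic_of_associated (hp.map _) (monic_X_pow j) hj
      have hjd : j = p.natDegree := by
        rw [← hp.natDegree_map (MvPolynomial.eval (0 : Fin n → ZMod 2)), hj', natDegree_X_pow]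
      have := congrArg (fun q : (ZMod 2)[X] => q.coeff 0) hj'
      simpa [coeff_map, coeff_X_pow, show (0 : ℕ) ≠ j by omega] using this
    have hm0 := h0 m hmm hmpos ⟨g, hg⟩
    have hg0 := h0 g hgmon hgpos ⟨m, hg.trans (mul_comm _ _)⟩
    obtain ⟨v₁, hv₁⟩ : ∃ v : Fin n → ZMod 2, v ≠ 0 :=
      ⟨fun _ => 1, fun h => one_ne_zero (congrFun h ⟨0, hn⟩)⟩
    have hv₁' : MvPolynomial.eval v₁ (m.coeff 0) * MvPolynomial.eval v₁ (g.coeff 0) ≠ 0 := by
      intro h
      exact hne v₁ hv₁ (by rw [hspec, h, mul_zero])
    have hN0 : m.coeff 0 ≠ 0 := fun h => hv₁' (by rw [h, map_zero, zero_mul])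
    have hc0 : g.coeff 0 ≠ 0 := fun h => hv₁' (by rw [h, map_zero, mul_zero])
    have hcdeg : 0 < (g.coeff 0).totalDegree := by
      by_contra hcon
      obtain ⟨k, hk⟩ : ∃ k, g.coeff 0 = MvPolynomial.C k :=
        ⟨_, MvPolynomial.totalDegree_eq_zero_iff_eq_C.1 (by omega)⟩
      rw [hk, MvPolynomial.eval_C] at hg0
      exact hc0 (by rw [hk, hg0, map_zero])
    have hdeg : (m.coeff 0).totalDegree < Fintype.card (Fin n) := by
      have h := det_genElt_totalDegree t
      change M.det.totalDegree ≤ n at h
      rw [hdet] at h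
      have h2 : ((-1 : R) ^ n * (m.coeff 0 * g.coeff 0)) = m.coeff 0 * g.coeff 0 := by
        rw [CharTwo.neg_eq, one_pow, one_mul]
      rw [h2, MvPolynomial.totalDegree_mul_of_isDomain hN0 hc0] at h
      rw [Fintype.card_fin]; omega
    have hcw := char_dvd_card_solutions 2 hdeg
    have hone : Fintype.card { v : Fin n → ZMod 2 // MvPolynomial.eval v (m.coeff 0) = 0 } = 1 := by
      refine Fintype.card_eq_one_iff.2 ⟨⟨0, hm0⟩, fun v => Subtype.ext ?_⟩
      by_contra hv
      exact hne v.1 hv (by rw [hspec, v.2, zero_mul, mul_zero])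
    rw [hone] at hcw
    omega

end Cfsg.Agent.TI1786
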