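import Cfsg.Agent.TI1786.Mutual
import Cfsg.Agent.TI1786.Field
import Cfsg.Agent.Lib.RootSubgroups.SL2

/-!
The group induced on the line is `SL₂`.
-/

set_option autoImplicit false
set_option linter.style.haveILetI false

namespace Cfsg.Agent.TI1786

open Cfsg Matrix

/-- A space of invertible matrices whose inverses form a space containing the identity. -/
theorem eq_inverse_space {n : ℕ} (T T' : Submodule (ZMod 2) (Matrix (Fin n) (Fin n) (ZMod 2)))
    (h1 : (1 : Matrix (Fin n) (Fin n) (ZMod 2)) ∈ T) (h1' : (1 : Matrix (Fin n) (Fin n) (ZMod 2)) ∈ T')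
    (h : ∀ a ∈ T, a ≠ 0 → ∃ c ∈ T', a * c = 1 ∧ c * a = 1)
    (h' : ∀ a ∈ T', a ≠ 0 → ∃ c ∈ T, a * c = 1 ∧ c * a = 1) :
    T = T' := by
  have htwo : ∀ m : Matrix (Fin n) (Fin n) (ZMod 2), m + m = 0 := fun m => by
    ext i j; exact CharTwo.add_self_eq_zero _
  have hsub : T' ≤ T := by
    intro s hs
    rcases eq_or_ne s 0 with rfl | hs0
    · exact T.zero_mem
    rcases eq_or_ne (1 + s) 0 with hu0 | hu0
    · have : s = 1 := by
        calc s = 1 + (1 + s) := by rw [← add_assoc, htwo, zero_add]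
          _ = 1 := by rw [hu0, add_zero]
      exact this ▸ h1
    obtain ⟨r, hr, hsr, hrs⟩ := h' s hs hs0
    obtain ⟨c, hc, huc, hcu⟩ := h' (1 + s) (T'.add_mem h1' hs) hu0
    have hc1 : c + 1 ≠ 0 := by
      intro he
      have : c = 1 := by
        calc c = c + 1 + 1 := by rw [add_assoc, htwo, add_zero]
          _ = 1 := by rw [he, zero_add]
      rw [this, one_mul] at hcu
      exact hs0 (by simpa using hcu)
    obtain ⟨d, hd, hcd, hdc⟩ := h _ (T.add_mem hc h1) hc1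
    have e1 : c + 1 = c * s := by
      calc c + 1 = c + c * (1 + s) := by rw [hcu]
        _ = (c + c) + c * s := by rw [mul_add, mul_one, add_assoc]
        _ = c * s := by rw [htwo, zero_add]
    rw [e1] at hcd
    have e2 : s * d = 1 + s := by
      calc s * d = ((1 + s) * c) * (s * d) := by rw [huc, one_mul]
        _ = (1 + s) * ((c * s) * d) := by simp only [mul_assoc]
        _ = 1 + s := by rw [hcd, mul_one]
    have e3 : d = r + 1 := by
      calc d = r * (s * d) := by rw [← mul_assoc, hrs, one_mul]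
        _ = r + 1 := by rw [e2, mul_add, mul_one, hrs]
    have hrT' : r ∈ T' := by
      have : r = d + 1 := by rw [e3, add_assoc, htwo, add_zero]
      rw [this]
      exact T'.add_mem hd h1'
    have hr0 : r ≠ 0 := by
      rintro rfl
      exact hs0 (by rw [← mul_one s, ← hsr]; simp)
    obtain ⟨x, hx, hrx, hxr⟩ := h' r hrT' hr0
    have : x = s := by rw [← one_mul x, ← hsr, mul_assoc, hrx, mul_one]
    exact this ▸ hx
  refine le_antisymm (fun a ha => ?_) hsub
  rcases eq_or_ne a 0 with rfl | ha0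
  · exact T'.zero_mem
  obtain ⟨c, hc, hac, hca⟩ := h a ha ha0
  have hc0 : c ≠ 0 := by
    rintro rfl
    exact ha0 (by rw [← mul_one a, ← hca]; simp)
  obtain ⟨x, hx, hcx, hxc⟩ := h c (hsub hc) hc0
  have : x = a := by rw [← one_mul x, ← hac, mul_assoc, hcx, mul_one]
  exact this ▸ hx

/-- A space of full dimension of invertible matrices, closed under inversion, is a field. -/
theorem comm_mul_of_inverse_closed {n : ℕ}
    (T : Submodule (ZMod 2) (Matrix (Fin n) (Fin n) (ZMod 2)))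
    (h1 : (1 : Matrix (Fin n) (Fin n) (ZMod 2)) ∈ T)
    (h : ∀ a ∈ T, a ≠ 0 → ∃ c ∈ T, a * c = 1 ∧ c * a = 1)
    (hdim : Module.finrank (ZMod 2) T = n) :
    ∀ a ∈ T, ∀ b ∈ T, a * b = b * a ∧ a * b ∈ T := by
  classical
  have htwo : ∀ m : Matrix (Fin n) (Fin n) (ZMod 2), m + m = 0 := fun m => by
    ext i j; exact CharTwo.add_self_eq_zero _
  have hU : ∀ a ∈ T, ∀ b ∈ T, a * b * a ∈ T := by
    intro a ha b hb
    rcases eq_or_ne b 0 with rfl | hb0
    · simpa using T.zero_mem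
    rcases eq_or_ne a 0 with rfl | ha0
    · simpa using T.zero_mem
    obtain ⟨c, hc, hbc, hcb⟩ := h b hb hb0
    rcases eq_or_ne (c + a) 0 with hca0 | hca0
    · have : a = c := by
        calc a = c + (c + a) := by rw [← add_assoc, htwo, zero_add]
          _ = c := by rw [hca0, add_zero]
      subst this
      rwa [hcb, one_mul]
    obtain ⟨e, he, he1, he2⟩ := h _ (T.add_mem hc ha) hca0
    obtain ⟨a', ha', haa', ha'a⟩ := h a ha ha0
    have hea : e * a = 1 + e * c := by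
      calc e * a = e * (c + a) + e * c := by
            rw [mul_add, add_comm (e * c), add_assoc, htwo, add_zero]
        _ = 1 + e * c := by rw [he2]
    have heab : e * a * b * a = b * a + e * a := by
      rw [hea, add_mul, add_mul, mul_assoc e c b, hcb, mul_one, one_mul, ← hea]
    have hq : (a' + e) * (a + a * b * a) = 1 := by
      have : a' * (a * b * a) = b * a := by rw [← mul_assoc, ← mul_assoc, ha'a, one_mul]
      rw [add_mul, mul_add, mul_add, ha'a, this,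
        show e * (a * b * a) = e * a * b * a by simp only [mul_assoc], heab]
      calc 1 + b * a + (e * a + (b * a + e * a))
          = 1 + ((b * a + b * a) + (e * a + e * a)) := by abel
        _ = 1 := by rw [htwo, htwo, add_zero, add_zero]
    have hq0 : a' + e ≠ 0 := by
      intro h0
      rw [h0, zero_mul] at hq
      exact ha0 (by rw [← mul_one a, ← hq, mul_zero])
    obtain ⟨r, hr, hqr, hrq⟩ := h _ (T.add_mem ha' he) hq0
    have hre : r = a + a * b * a := by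
      calc r = r * ((a' + e) * (a + a * b * a)) := by rw [hq, mul_one]
        _ = a + a * b * a := by rw [← mul_assoc, hrq, one_mul]
    have : a * b * a = r - a := by rw [hre, add_sub_cancel_left]
    rw [this]
    exact T.sub_mem hr ha
  have hunit : ∀ a ∈ T, a ≠ 0 → IsUnit a := fun a ha ha0 => by
    obtain ⟨c, -, h1, h2⟩ := h a ha ha0
    exact ⟨⟨a, c, h1, h2⟩, rfl⟩
  have hcomm := comm_of_jordan T h1 hunit hU hdim
  have hsq : Function.Surjective fun c : ↥T =>
      (⟨c.1 * c.1, by simpa using hU c.1 c.2 1 h1⟩ : ↥T) := by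
    refine Finite.surjective_of_injective fun c d he => ?_
    have he' : c.1 * c.1 = d.1 * d.1 := congrArg Subtype.val he
    refine Subtype.ext ?_
    by_contra hne
    have hz : (c.1 + d.1) * (c.1 + d.1) = 0 := by
      rw [add_mul, mul_add, mul_add, hcomm c.1 c.2 d.1 d.2, he']
      calc d.1 * d.1 + d.1 * c.1 + (d.1 * c.1 + d.1 * d.1)
          = (d.1 * d.1 + d.1 * d.1) + (d.1 * c.1 + d.1 * c.1) := by abel
        _ = 0 := by rw [htwo, htwo, add_zero]
    have hne' : c.1 + d.1 ≠ 0 := fun h0 => hne (by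
      calc c.1 = c.1 + (d.1 + d.1) := by rw [htwo, add_zero]
        _ = d.1 := by rw [← add_assoc, h0, zero_add])
    obtain ⟨x, -, -, hx⟩ := h _ (T.add_mem c.2 d.2) hne'
    exact hne' (by
      calc c.1 + d.1 = x * ((c.1 + d.1) * (c.1 + d.1)) := by rw [← mul_assoc, hx, one_mul]
        _ = 0 := by rw [hz, mul_zero])
  intro a ha b hb
  refine ⟨hcomm a ha b hb, ?_⟩
  obtain ⟨⟨c, hc⟩, hc2⟩ := hsq ⟨a, ha⟩
  have hca : c * c = a := congrArg Subtype.val hc2
  have : a * b = c * b * c := by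
    calc a * b = c * (c * b) := by rw [← hca, mul_assoc]
      _ = c * (b * c) := congrArg (c * ·) (hcomm c hc b hb)
      _ = c * b * c := (mul_assoc c b c).symm
  rw [this]
  exact hU c hc b hb

/-- An elementary abelian `2`-subgroup has coordinates. -/
theorem exists_coords {G : Type*} [Group G] [Finite G] {A : Subgroup G} (h : ∀ a ∈ A, a * a = 1) :
    ∃ (n : ℕ) (α : (Fin n → ZMod 2) → G), Function.Injective α ∧ (∀ x, α x ∈ A) ∧
      (∀ a ∈ A, ∃ x, α x = a) ∧ ∀ x y, α (x + y) = α x * α y := by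
  classical
  have hi : ∀ a ∈ A, a⁻¹ = a := fun a ha => inv_eq_of_mul_eq_one_right (h a ha)
  letI : CommGroup ↥A := { (inferInstance : Group ↥A) with
    mul_comm := fun a b => Subtype.ext (by
      have h1 := hi _ (A.mul_mem a.2 b.2)
      rw [_root_.mul_inv_rev, hi _ a.2, hi _ b.2] at h1
      exact h1.symm) }
  letI : Module (ZMod 2) (Additive ↥A) := AddCommGroup.zmodModule (n := 2) fun x => by
    apply Additive.toMul.injective
    exact Subtype.ext (by simpa [pow_two] using h _ (Additive.toMul x).2)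
  let b := Module.finBasis (ZMod 2) (Additive ↥A)
  let f := b.equivFun.symm
  refine ⟨_, fun x => ((Additive.toMul (f x) : ↥A) : G), ?_, fun x => (Additive.toMul (f x)).2, ?_, ?_⟩
  · exact Subtype.val_injective.comp (Additive.toMul.injective.comp f.injective)
  · intro a ha
    exact ⟨f.symm (Additive.ofMul ⟨a, ha⟩), by simp⟩
  · intro x y
    simp

variable {G : Type*} [Group G] [Finite G] {V : Subgroup G} (hT : TI V) {A B : Subgroup G}

include hT

theorem decomp_unique (hA : Mem V A) {a a' v v' : G} (ha : a ∈ A) (ha' : a' ∈ A) (hv : v ∈ V)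
    (hv' : v' ∈ V) (h : a * v = a' * v') : a = a' ∧ v = v' := by
  have h1 : a'⁻¹ * a = v' * v⁻¹ := by
    rw [eq_mul_inv_iff_mul_eq, mul_assoc, h, inv_mul_cancel_left]
  have h2 : a'⁻¹ * a = 1 := by
    by_contra hne
    exact hA.ne (eq_of_mem hT hA.conj (IsC.self V) (A.mul_mem (A.inv_mem ha') ha)
      (h1 ▸ V.mul_mem hv' (V.inv_mem hv)) hne)
  have h3 : a = a' := (inv_mul_eq_one.1 h2).symm
  exact ⟨h3, mul_left_cancel (h3 ▸ h)⟩

theorem exists_inverse (hA : Mem V A) (hB : Partner V A B) {B' : Subgroup G} (hB' : Partner A V B')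
    {b : G} (hb : b ∈ B) (hb1 : b ≠ 1) : ∃ b' ∈ B', ∀ a ∈ A, tw b' (tw b a) = a := by
  have tA := hT.of_isC hA.conj
  have hAV := mem_symm hT hA
  obtain ⟨⟨a₀, ha₀⟩, ha₀1⟩ := Subgroup.ne_bot_iff_exists_ne_one.1 tA.ne
  have ha₀' : a₀ ≠ 1 := fun h => ha₀1 (Subtype.ext h)
  have hbP := hB.le hb
  have hv₀ := tw_mem hT hbP (hA.le_Psub hT ha₀)
  have hv₀1 : tw b a₀ ≠ 1 := fun h => hB.not_comm hT hA ha₀ ha₀' hb hb1 (tw_eq_one_iff.1 h).symm
  obtain ⟨b', hb', hbb⟩ := hB'.exists_tw tA hAV hv₀ hv₀1 ha₀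
  have hc : ∀ a ∈ A, ∀ v ∈ V, a * v = v * a := fun a ha v hv =>
    Psub_le_centralizer (hA.le_Psub hT ha) hv
  have heq : cj b A = cj b' V := by
    refine eq_of_mem hT (hA.conj.cj b) ((IsC.self V).cj b') (conj_mem_cj ha₀) ?_ ?_
    · have : b * a₀ * b⁻¹ = b' * tw b a₀ * b'⁻¹ := by
        rw [conj_eq_mul_tw, conj_eq_mul_tw, hbb, hc _ ha₀ _ hv₀]
      rw [this]
      exact conj_mem_cj hv₀
    · intro he
      exact ha₀' (by rwa [mul_inv_eq_one, mul_eq_left] at he)
  refine ⟨b', hb', fun a ha => ?_⟩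
  have h1 : b * a * b⁻¹ ∈ cj b' V := heq ▸ conj_mem_cj ha
  obtain ⟨v, hv, hvb⟩ := h1
  have hvb' : b' * v * b'⁻¹ = b * a * b⁻¹ := hvb
  have htv : tw b' v ∈ A := tw_mem tA (hB'.le hb') (hAV.le_Psub tA hv)
  rw [conj_eq_mul_tw, conj_eq_mul_tw, ← hc _ htv _ hv] at hvb'
  obtain ⟨e1, e2⟩ := decomp_unique hT hA htv ha hv (tw_mem hT hbP (hA.le_Psub hT ha)) hvb'
  rw [← e2, e1]

theorem sup_le_normalizer (hA : Mem V A) :
    Psub V ⊔ Psub A ≤ Subgroup.normalizer ((V ⊔ A : Subgroup G) : Set G) := by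
  have aux : ∀ {V A : Subgroup G}, TI V → Mem V A → ∀ p ∈ Psub V,
      p ∈ Subgroup.normalizer ((V ⊔ A : Subgroup G) : Set G) := by
    intro V A hT hA p hp
    refine mem_normalizer_iff_cj.2 (Subgroup.eq_of_le_of_card_ge ?_ (le_of_eq (card_cj p _).symm))
    show Subgroup.map _ (V ⊔ A) ≤ _
    rw [Subgroup.map_sup]
    exact sup_le ((mem_normalizer_iff_cj.1 (Qsub_le V hp.1)).le.trans le_sup_left) (cj_le_W hT hA hp)
  refine sup_le (fun p hp => aux hT hA p hp) fun p hp => ?_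
  rw [sup_comm]
  exact aux (hT.of_isC hA.conj) (mem_symm hT hA) p hp

/-- The group induced on the line is `SL₂` over a field with as many elements as `V`. -/
theorem line_iso (hA : Mem V A)
    (hN : ((Subgroup.centralizer ((V ⊔ A : Subgroup G) : Set G)).subgroupOf (Psub V ⊔ Psub A)).Normal) :
    ∃ (F : Type) (_ : Field F) (_ : Fintype F), Fintype.card F = Nat.card ↥V ∧
      Nonempty (↥(Psub V ⊔ Psub A) ⧸
        (Subgroup.centralizer ((V ⊔ A : Subgroup G) : Set G)).subgroupOf (Psub V ⊔ Psub A) ≃*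
          Matrix.SpecialLinearGroup (Fin 2) F) := by
  classical
  have tA := hT.of_isC hA.conj
  have hAV := mem_symm hT hA
  obtain ⟨B, hB⟩ := exists_partner hT hA
  obtain ⟨B', hB'⟩ := exists_partner tA hAV
  have hAP := hA.le_Psub hT
  have hVP := hAV.le_Psub tA
  obtain ⟨n, α, αinj, αA, αsurj, αadd⟩ := exists_coords tA.elem
  have αzero : α 0 = 1 := by
    have h := αadd 0 0
    rw [add_zero] at h
    exact mul_eq_left.1 h.symm
  have hcardA : Nat.card ↥A = 2 ^ n := by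
    rw [← Nat.card_eq_of_bijective (fun x => (⟨α x, αA x⟩ : ↥A))
      ⟨fun x y h => αinj (congrArg Subtype.val h), fun a => by
        obtain ⟨x, hx⟩ := αsurj a.1 a.2; exact ⟨x, Subtype.ext hx⟩⟩]
    simp [Nat.card_eq_fintype_card]
  obtain ⟨⟨a₀, ha₀⟩, ha₀1⟩ := Subgroup.ne_bot_iff_exists_ne_one.1 tA.ne
  obtain ⟨e₀, he₀⟩ := αsurj a₀ ha₀
  have he₀0 : e₀ ≠ 0 := fun h => ha₀1 (Subtype.ext (by
    show a₀ = 1
    rw [← he₀, h, αzero]))
  have hαne : ∀ x, x ≠ 0 → α x ≠ 1 := fun x hx h => hx (αinj (h.trans αzero.symm))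
  obtain ⟨b₁, hb₁, hb₁1⟩ : ∃ b ∈ B, b ≠ 1 := by
    obtain ⟨⟨b, hb⟩, hb1⟩ := Subgroup.ne_bot_iff_exists_ne_one.1 (hT.of_isC hB.conj).ne
    exact ⟨b, hb, fun h => hb1 (Subtype.ext h)⟩
  -- coordinates on `V`
  obtain ⟨β, βdef⟩ : ∃ β : (Fin n → ZMod 2) → G, ∀ x, β x = tw b₁ (α x) := ⟨_, fun _ => rfl⟩
  have βadd : ∀ x y, β (x + y) = β x * β y := fun x y => by
    rw [βdef, βdef, βdef, αadd, tw_mul_right hT (hB.le hb₁) (hAP (αA x)) (hAP (αA y))]
  have βV : ∀ x, β x ∈ V := fun x => by rw [βdef]; exact tw_mem hT (hB.le hb₁) (hAP (αA x))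
  have βinj : Function.Injective β := by
    intro x y h
    have hz : β (x - y) = 1 := by
      have h' := βadd (x - y) y
      rw [sub_add_cancel, h] at h'
      exact mul_eq_right.1 h'.symm
    by_contra hne
    exact hB.not_comm hT hA (αA (x - y)) (hαne _ (sub_ne_zero.2 hne)) hb₁ hb₁1
      (tw_eq_one_iff.1 (by rw [← βdef]; exact hz)).symm
  have βsurj : ∀ v ∈ V, ∃ x, β x = v := by
    intro v hv
    obtain ⟨a, ha, h⟩ := hB.exists_tw' hT hA hb₁ hb₁1 hv
    obtain ⟨x, rfl⟩ := αsurj a ha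
    exact ⟨x, by rw [βdef]; exact h⟩
  have βzero : β 0 = 1 := by rw [βdef, αzero]; simp [tw]
  -- linear maps realizing an additive function
  have hlin : ∀ (γ : (Fin n → ZMod 2) → G), Function.Injective γ →
      (∀ x y, γ (x + y) = γ x * γ y) → ∀ (f : (Fin n → ZMod 2) → G),
      (∀ x y, f (x + y) = f x * f y) → (∀ x, ∃ y, γ y = f x) →
      ∃ M : Matrix (Fin n) (Fin n) (ZMod 2), ∀ x, f x = γ (M *ᵥ x) := by
    intro γ γinj γadd f fadd hf
    choose g hg using hf
    have gadd : ∀ x y, g (x + y) = g x + g y := fun x y =>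
      γinj (by rw [hg, γadd, hg, hg, fadd])
    refine ⟨LinearMap.toMatrix' ((AddMonoidHom.mk' g gadd).toZModLinearMap 2), fun x => ?_⟩
    rw [← Matrix.toLin'_apply, Matrix.toLin'_toMatrix']
    exact (hg x).symm
  have hMb : ∀ p ∈ Psub V, ∃ M : Matrix (Fin n) (Fin n) (ZMod 2),
      ∀ x, tw p (α x) = β (M *ᵥ x) := fun p hp =>
    hlin β βinj βadd (fun x => tw p (α x))
      (fun x y => by rw [αadd, tw_mul_right hT hp (hAP (αA x)) (hAP (αA y))])
      fun x => βsurj _ (tw_mem hT hp (hAP (αA x)))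
  have hMb' : ∀ p ∈ Psub A, ∃ M : Matrix (Fin n) (Fin n) (ZMod 2),
      ∀ y, tw p (β y) = α (M *ᵥ y) := fun p hp =>
    hlin α αinj αadd (fun y => tw p (β y))
      (fun x y => by rw [βadd, tw_mul_right tA hp (hVP (βV x)) (hVP (βV y))])
      fun y => αsurj _ (tw_mem tA hp (hVP (βV y)))
  let T : Submodule (ZMod 2) (Matrix (Fin n) (Fin n) (ZMod 2)) := AddSubgroup.toZModSubmodule 2
    { carrier := {M | ∃ b ∈ B, ∀ x, tw b (α x) = β (M *ᵥ x)}
      zero_mem' := ⟨1, B.one_mem, fun x => by simp [tw, βzero]⟩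
      add_mem' := by
        rintro M M' ⟨b, hb, h⟩ ⟨b', hb', h'⟩
        exact ⟨b * b', B.mul_mem hb hb', fun x => by
          rw [tw_mul_left hT (hB.le hb) (hB.le hb') (hAP (αA x)), h, h', ← βadd, add_mulVec]⟩
      neg_mem' := by
        intro M hM
        rwa [show -M = M from by ext i j; exact CharTwo.neg_eq _] }
  let T' : Submodule (ZMod 2) (Matrix (Fin n) (Fin n) (ZMod 2)) := AddSubgroup.toZModSubmodule 2
    { carrier := {M | ∃ b ∈ B', ∀ y, tw b (β y) = α (M *ᵥ y)}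
      zero_mem' := ⟨1, B'.one_mem, fun x => by simp [tw, αzero]⟩
      add_mem' := by
        rintro M M' ⟨b, hb, h⟩ ⟨b', hb', h'⟩
        exact ⟨b * b', B'.mul_mem hb hb', fun y => by
          rw [tw_mul_left tA (hB'.le hb) (hB'.le hb') (hVP (βV y)), h, h', ← αadd, add_mulVec]⟩
      neg_mem' := by
        intro M hM
        rwa [show -M = M from by ext i j; exact CharTwo.neg_eq _] }
  have memT : ∀ M, M ∈ T ↔ ∃ b ∈ B, ∀ x, tw b (α x) = β (M *ᵥ x) := fun M => Iff.rfl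
  have memT' : ∀ M, M ∈ T' ↔ ∃ b ∈ B', ∀ y, tw b (β y) = α (M *ᵥ y) := fun M => Iff.rfl
  have h1T : (1 : Matrix (Fin n) (Fin n) (ZMod 2)) ∈ T :=
    (memT 1).2 ⟨b₁, hb₁, fun x => by rw [one_mulVec, βdef]⟩
  have h1T' : (1 : Matrix (Fin n) (Fin n) (ZMod 2)) ∈ T' := by
    obtain ⟨b', hb', h⟩ := exists_inverse hT hA hB hB' hb₁ hb₁1
    exact (memT' 1).2 ⟨b', hb', fun y => by rw [one_mulVec, βdef]; exact h _ (αA y)⟩
  have hinvT : ∀ M ∈ T, M ≠ 0 → ∃ N ∈ T', M * N = 1 ∧ N * M = 1 := by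
    intro M hM hM0
    obtain ⟨b, hb, hb'⟩ := (memT M).1 hM
    have hbne : b ≠ 1 := by
      rintro rfl
      refine hM0 (Matrix.ext_iff_mulVec.2 fun x => βinj ?_)
      rw [← hb', zero_mulVec, βzero]; simp [tw]
    obtain ⟨c, hc, hcb⟩ := exists_inverse hT hA hB hB' hb hbne
    obtain ⟨N, hN⟩ := hMb' c (hB'.le hc)
    have hNM : N * M = 1 := Matrix.ext_iff_mulVec.2 fun x => αinj (by
      rw [← mulVec_mulVec, ← hN, ← hb', one_mulVec]; exact hcb _ (αA x))
    exact ⟨N, (memT' N).2 ⟨c, hc, hN⟩, mul_eq_one_comm.1 hNM, hNM⟩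
  have hinvT' : ∀ M ∈ T', M ≠ 0 → ∃ N ∈ T, M * N = 1 ∧ N * M = 1 := by
    intro M hM hM0
    obtain ⟨b, hb, hb'⟩ := (memT' M).1 hM
    have hbne : b ≠ 1 := by
      rintro rfl
      refine hM0 (Matrix.ext_iff_mulVec.2 fun x => αinj ?_)
      rw [← hb', zero_mulVec, αzero]; simp [tw]
    obtain ⟨c, hc, hcb⟩ := exists_inverse tA hAV hB' hB hb hbne
    obtain ⟨N, hN⟩ := hMb c (hB.le hc)
    have hNM : N * M = 1 := Matrix.ext_iff_mulVec.2 fun y => βinj (by
      rw [← mulVec_mulVec, ← hN, ← hb', one_mulVec]; exact hcb _ (βV y))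
    exact ⟨N, (memT N).2 ⟨c, hc, hN⟩, mul_eq_one_comm.1 hNM, hNM⟩
  have hTT := eq_inverse_space T T' h1T h1T' hinvT hinvT'
  have hinv : ∀ M ∈ T, M ≠ 0 → ∃ N ∈ T, M * N = 1 ∧ N * M = 1 := fun M hM h0 =>
    hinvT' M (hTT ▸ hM) h0
  have hcardT : Nat.card ↥T = 2 ^ n := by
    rw [← hcardA, card_eq hA.conj, ← card_eq hB.conj]
    refine (Nat.card_eq_of_bijective
      (fun b : ↥B => (⟨_, (memT _).2 ⟨b, b.2, (hMb b (hB.le b.2)).choose_spec⟩⟩ : ↥T)) ⟨?_, ?_⟩).symm
    · intro b b' h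
      refine Subtype.ext (hB.tw_injective hT hA ha₀ (he₀ ▸ hαne e₀ he₀0) b.2 b'.2 ?_)
      rw [← he₀, (hMb b (hB.le b.2)).choose_spec, (hMb b' (hB.le b'.2)).choose_spec]
      exact congrArg (fun M => β (M *ᵥ e₀)) (congrArg Subtype.val h)
    · rintro ⟨M, hM⟩
      obtain ⟨b, hb, hb'⟩ := (memT M).1 hM
      exact ⟨⟨b, hb⟩, Subtype.ext (Matrix.ext_iff_mulVec.2 fun x => βinj (by
        rw [← hb', ← (hMb b (hB.le hb)).choose_spec]))⟩
  have hdim : Module.finrank (ZMod 2) ↥T = n := by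
    apply Nat.pow_right_injective (le_refl 2)
    show 2 ^ _ = 2 ^ n
    rw [← hcardT, Module.natCard_eq_pow_finrank (K := ZMod 2) (V := ↥T), Nat.card_zmod]
  have hmul := comm_mul_of_inverse_closed T h1T hinv hdim
  let K : Subring (Matrix (Fin n) (Fin n) (ZMod 2)) :=
    { T.toAddSubgroup with
      one_mem' := h1T
      mul_mem' := fun ha hb => (hmul _ ha _ hb).2 }
  letI : CommRing ↥K := { K.toRing with
    mul_comm := fun a b => Subtype.ext (hmul _ a.2 _ b.2).1 }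
  have hKfield : IsField ↥K := by
    refine ⟨⟨0, 1, fun h => ?_⟩, mul_comm, fun {a} ha => ?_⟩
    · have h' := congrArg (fun m : ↥K => (m : Matrix (Fin n) (Fin n) (ZMod 2)) *ᵥ e₀) h
      simp at h'
      exact he₀0 h'.symm
    · obtain ⟨N, hN, h1, -⟩ := hinv a.1 a.2 fun h => ha (Subtype.ext h)
      exact ⟨⟨N, hN⟩, Subtype.ext h1⟩
  letI : Field ↥K := hKfield.toField
  letI : Fintype ↥K := Fintype.ofFinite _
  have hcardK : Fintype.card ↥K = Nat.card ↥V := by
    rw [← Nat.card_eq_fintype_card, ← card_eq hA.conj, hcardA, ← hcardT]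
    exact Nat.card_congr (Equiv.refl _)
  -- the evaluation at `e₀`
  let ev : ↥K → Fin n → ZMod 2 := fun k => k.1 *ᵥ e₀
  have evadd : ∀ k l : ↥K, ev (k + l) = ev k + ev l := fun k l => add_mulVec _ _ _
  have evmul : ∀ k l : ↥K, ev (k * l) = k.1 *ᵥ ev l := fun k l => (mulVec_mulVec _ _ _).symm
  have evinj : Function.Injective ev := by
    intro k l h
    have h0 : ev (k - l) = 0 := by
      have := evadd (k - l) l
      rw [sub_add_cancel, h] at this
      simpa using this.symm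
    by_contra hne
    obtain ⟨N, -, -, hN⟩ := hinv (k - l).1 (k - l).2 fun h => sub_ne_zero.2 hne (Subtype.ext h)
    refine he₀0 ?_
    rw [← one_mulVec e₀, ← hN, ← mulVec_mulVec]
    show N *ᵥ ev (k - l) = 0
    rw [h0, mulVec_zero]
  have evsurj : Function.Surjective ev :=
    ((Fintype.bijective_iff_injective_and_card ev).2 ⟨evinj, by
      rw [hcardK, ← card_eq hA.conj, hcardA]; simp⟩).2
  have hAVc : ∀ x y, α x * β y = β y * α x := fun x y =>
    Psub_le_centralizer (hAP (αA x)) (βV y)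
  let c : (Fin 2 → ↥K) → ↥(V ⊔ A) := fun z => ⟨α (ev (z 1)) * β (ev (z 0)),
    (mem_W_iff hT hA).2 ⟨_, αA _, _, βV _, rfl⟩⟩
  have hc : ∀ z, (c z : G) = α (ev (z 1)) * β (ev (z 0)) := fun z => rfl
  have cadd : ∀ z z', c (z + z') = c z * c z' := fun z z' => Subtype.ext (by
    rw [Subgroup.coe_mul, hc, hc, hc, Pi.add_apply, Pi.add_apply, evadd, evadd, αadd, βadd,
      mul_assoc, mul_assoc, ← mul_assoc (α (ev (z' 1))) (β (ev (z 0))), hAVc, mul_assoc])
  have cbij : Function.Bijective c := by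
    refine ⟨fun z z' h => ?_, fun w => ?_⟩
    · obtain ⟨h1, h0⟩ := decomp_unique hT hA (αA _) (αA _) (βV _) (βV _)
        (congrArg Subtype.val h)
      have h1' := evinj (αinj h1)
      have h0' := evinj (βinj h0)
      ext i : 1
      fin_cases i
      · exact h0'
      · exact h1'
    · obtain ⟨a, ha, v, hv, hw⟩ := (mem_W_iff hT hA).1 w.2
      obtain ⟨x, rfl⟩ := αsurj a ha
      obtain ⟨y, rfl⟩ := βsurj v hv
      obtain ⟨k, rfl⟩ := evsurj x
      obtain ⟨l, rfl⟩ := evsurj y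
      exact ⟨![l, k], Subtype.ext (by rw [hc, hw]; simp)⟩
  let e := Equiv.ofBijective c cbij
  have hgi : ∀ g : Matrix.SpecialLinearGroup (Fin 2) ↥K, (g⁻¹).1 * g.1 = 1 ∧ g.1 * (g⁻¹).1 = 1 :=
    fun g => ⟨congrArg Subtype.val (inv_mul_cancel g), congrArg Subtype.val (mul_inv_cancel g)⟩
  let act : Matrix.SpecialLinearGroup (Fin 2) ↥K → MulAut ↥(V ⊔ A) := fun g =>
    { toFun := fun w => c (g.1 *ᵥ e.symm w)
      invFun := fun w => c ((g⁻¹).1 *ᵥ e.symm w)
      left_inv := fun w => by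
        have : e.symm (c (g.1 *ᵥ e.symm w)) = g.1 *ᵥ e.symm w := e.symm_apply_apply _
        simp only [this, mulVec_mulVec, (hgi g).1, one_mulVec]
        exact e.apply_symm_apply w
      right_inv := fun w => by
        have : e.symm (c ((g⁻¹).1 *ᵥ e.symm w)) = (g⁻¹).1 *ᵥ e.symm w := e.symm_apply_apply _
        simp only [this, mulVec_mulVec, (hgi g).2, one_mulVec]
        exact e.apply_symm_apply w
      map_mul' := fun w w' => by
        have : e.symm (w * w') = e.symm w + e.symm w' := by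
          apply e.injective
          rw [e.apply_symm_apply]
          show w * w' = c (e.symm w + e.symm w')
          rw [cadd]
          exact (congrArg₂ (· * ·) (e.apply_symm_apply w) (e.apply_symm_apply w')).symm
        simp only [this, mulVec_add, cadd] }
  have hact : ∀ g z, act g (c z) = c (g.1 *ᵥ z) := fun g z => by
    show c (g.1 *ᵥ e.symm (c z)) = _
    rw [show e.symm (c z) = z from e.symm_apply_apply z]
  let ι : Matrix.SpecialLinearGroup (Fin 2) ↥K →* MulAut ↥(V ⊔ A) := MonoidHom.mk' act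
    fun g g' => MulEquiv.ext fun w => by
      obtain ⟨z, rfl⟩ := cbij.2 w
      show _ = act g (act g' (c z))
      rw [hact, hact, hact, mulVec_mulVec]
      rfl
  have ιinj : Function.Injective ι := fun g g' h => Subtype.ext (Matrix.ext_iff_mulVec.2 fun z =>
    cbij.1 (by rw [← hact, ← hact]; exact congrArg (fun φ : MulAut ↥(V ⊔ A) => φ (c z)) h))
  let ρ : ↥(Psub V ⊔ Psub A) →* MulAut ↥(V ⊔ A) :=
    (V ⊔ A).normalizerMonoidHom.comp (Subgroup.inclusion (sup_le_normalizer hT hA))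
  have hρ : ∀ (h : ↥(Psub V ⊔ Psub A)) (w : ↥(V ⊔ A)), ((ρ h w : ↥(V ⊔ A)) : G) = h * w * (h : G)⁻¹ := fun h w => rfl
  have hker : ρ.ker = (Subgroup.centralizer ((V ⊔ A : Subgroup G) : Set G)).subgroupOf (Psub V ⊔ Psub A) := by
    ext h
    show (V ⊔ A).normalizerMonoidHom (Subgroup.inclusion (sup_le_normalizer hT hA) h) = 1 ↔ _
    rw [← MonoidHom.mem_ker, Subgroup.normalizerMonoidHom_ker]
    rfl
  have hTV : ∀ p : ↥(Psub V ⊔ Psub A), (p : G) ∈ Psub V →
      ∃ θ : ↥K, ρ p = ι (RootSubgroups.SL2.u θ) := by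
    intro p hp
    obtain ⟨M, hM⟩ := hMb p hp
    obtain ⟨b, hb, hbc⟩ := exists_decomp hT hA hB hp
    have hMT : M ∈ T := by
      refine (memT M).2 ⟨b, hb, fun x => ?_⟩
      rw [← hM]
      have h := tw_eq_one_iff.2 (hbc _ (αA x))
      rw [tw_mul_left hT hp (hB.le hb) (hAP (αA x))] at h
      rw [← hT.inv (tw_mem hT hp (hAP (αA x)))]
      exact (inv_eq_of_mul_eq_one_right h).symm
    refine ⟨⟨M, hMT⟩, MulEquiv.ext fun w => ?_⟩
    obtain ⟨z, rfl⟩ := cbij.2 w
    show _ = act _ (c z)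
    rw [hact]
    refine Subtype.ext ?_
    rw [hρ, hc, hc]
    have e1 : (p : G) * β (ev (z 0)) * (p : G)⁻¹ = β (ev (z 0)) := by
      rw [Psub_le_centralizer hp (βV _), mul_inv_cancel_right]
    have e2 : (RootSubgroups.SL2.u (⟨M, hMT⟩ : ↥K)).1 *ᵥ z = ![z 0 + ⟨M, hMT⟩ * z 1, z 1] := by
      ext i : 1
      fin_cases i <;> simp [Matrix.mulVec, dotProduct, Fin.sum_univ_two]
    rw [e2]
    show _ = α (ev (z 1)) * β (ev (z 0 + ⟨M, hMT⟩ * z 1))
    rw [evadd, evmul, βadd, ← hM]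
    calc (p : G) * (α (ev (z 1)) * β (ev (z 0))) * (p : G)⁻¹
        = ((p : G) * α (ev (z 1)) * (p : G)⁻¹) * ((p : G) * β (ev (z 0)) * (p : G)⁻¹) := by group
      _ = _ := by
        rw [e1, conj_eq_mul_tw, mul_assoc,
          hT.comm (tw_mem hT hp (hAP (αA _))) (βV _)]
  have hTA : ∀ p : ↥(Psub V ⊔ Psub A), (p : G) ∈ Psub A →
      ∃ θ : ↥K, ρ p = ι (RootSubgroups.SL2.v θ) := by
    intro p hp
    obtain ⟨M, hM⟩ := hMb' p hp
    obtain ⟨b, hb, hbc⟩ := exists_decomp tA hAV hB' hp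
    have hMT : M ∈ T := by
      rw [hTT]
      refine (memT' M).2 ⟨b, hb, fun x => ?_⟩
      rw [← hM]
      have h := tw_eq_one_iff.2 (hbc _ (βV x))
      rw [tw_mul_left tA hp (hB'.le hb) (hVP (βV x))] at h
      rw [← tA.inv (tw_mem tA hp (hVP (βV x)))]
      exact (inv_eq_of_mul_eq_one_right h).symm
    refine ⟨⟨M, hMT⟩, MulEquiv.ext fun w => ?_⟩
    obtain ⟨z, rfl⟩ := cbij.2 w
    show _ = act _ (c z)
    rw [hact]
    refine Subtype.ext ?_
    rw [hρ, hc, hc]
    have e1 : (p : G) * α (ev (z 1)) * (p : G)⁻¹ = α (ev (z 1)) := by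
      rw [Psub_le_centralizer hp (αA _), mul_inv_cancel_right]
    have e2 : (RootSubgroups.SL2.v (⟨M, hMT⟩ : ↥K)).1 *ᵥ z = ![z 0, ⟨M, hMT⟩ * z 0 + z 1] := by
      ext i : 1
      fin_cases i <;> simp [Matrix.mulVec, dotProduct, Fin.sum_univ_two]
    rw [e2]
    show _ = α (ev (⟨M, hMT⟩ * z 0 + z 1)) * β (ev (z 0))
    rw [evadd, evmul, αadd, ← hM]
    calc (p : G) * (α (ev (z 1)) * β (ev (z 0))) * (p : G)⁻¹
        = ((p : G) * α (ev (z 1)) * (p : G)⁻¹) * ((p : G) * β (ev (z 0)) * (p : G)⁻¹) := by group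
      _ = _ := by
        rw [e1, conj_eq_mul_tw]
        have ht := tw_mem tA hp (hVP (βV (ev (z 0))))
        have e3 : β (ev (z 0)) * tw (p : G) (β (ev (z 0))) = tw (p : G) (β (ev (z 0))) * β (ev (z 0)) :=
          (Psub_le_centralizer (hAP ht) (βV _)).symm
        rw [e3, ← mul_assoc, tA.comm (αA _) ht]
  have hrealU : ∀ θ : ↥K, ι (RootSubgroups.SL2.u θ) ∈ ρ.range := by
    intro θ
    obtain ⟨b, hb, hbθ⟩ := (memT θ.1).1 θ.2
    have hbH : b ∈ (Psub V ⊔ Psub A) := Subgroup.mem_sup_left (hB.le hb)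
    obtain ⟨θ', h⟩ := hTV ⟨b, hbH⟩ (hB.le hb)
    refine ⟨⟨b, hbH⟩, ?_⟩
    rw [h]
    have hz := congrArg Subtype.val
      (congrArg (fun φ : MulAut ↥(V ⊔ A) => φ (c ![0, 1])) h)
    simp only [hρ] at hz
    have e2 : (RootSubgroups.SL2.u θ').1 *ᵥ ![0, 1] = ![θ', 1] := by
      ext i : 1
      fin_cases i <;> simp [Matrix.mulVec, dotProduct, Fin.sum_univ_two]
    rw [show ι (RootSubgroups.SL2.u θ') (c ![0, 1]) = c ![θ', 1] by
      show act _ _ = _
      rw [hact, e2]] at hz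
    rw [hc, hc] at hz
    simp only [Matrix.cons_val_zero, Matrix.cons_val_one] at hz
    have e3 : ev 1 = e₀ := one_mulVec _
    have e4 : ev (0 : ↥K) = 0 := zero_mulVec _
    rw [e3, e4, βzero, mul_one, conj_eq_mul_tw, hbθ] at hz
    have : θ' = θ := evinj (βinj (mul_left_cancel hz).symm)
    rw [this]
  have hrealV : ∀ θ : ↥K, ι (RootSubgroups.SL2.v θ) ∈ ρ.range := by
    intro θ
    obtain ⟨b, hb, hbθ⟩ := (memT' θ.1).1 (hTT ▸ θ.2)
    have hbH : b ∈ (Psub V ⊔ Psub A) := Subgroup.mem_sup_right (hB'.le hb)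
    obtain ⟨θ', h⟩ := hTA ⟨b, hbH⟩ (hB'.le hb)
    refine ⟨⟨b, hbH⟩, ?_⟩
    rw [h]
    have hz := congrArg Subtype.val
      (congrArg (fun φ : MulAut ↥(V ⊔ A) => φ (c ![1, 0])) h)
    simp only [hρ] at hz
    have e2 : (RootSubgroups.SL2.v θ').1 *ᵥ ![1, 0] = ![1, θ'] := by
      ext i : 1
      fin_cases i <;> simp [Matrix.mulVec, dotProduct, Fin.sum_univ_two]
    rw [show ι (RootSubgroups.SL2.v θ') (c ![1, 0]) = c ![1, θ'] by
      show act _ _ = _
      rw [hact, e2]] at hz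
    rw [hc, hc] at hz
    simp only [Matrix.cons_val_zero, Matrix.cons_val_one] at hz
    have e3 : ev 1 = e₀ := one_mulVec _
    have e4 : ev (0 : ↥K) = 0 := zero_mulVec _
    rw [e3, e4, αzero, one_mul, conj_eq_mul_tw, hbθ, ← hAVc] at hz
    have : θ' = θ := evinj (αinj (mul_right_cancel hz).symm)
    rw [this]
  have hrange : ρ.range = ι.range := by
    refine le_antisymm ?_ ?_
    · rintro _ ⟨h, rfl⟩
      have htop : (Psub V).subgroupOf (Psub V ⊔ Psub A) ⊔ (Psub A).subgroupOf (Psub V ⊔ Psub A) ≤ ι.range.comap ρ := by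
        refine sup_le (fun p hp => ?_) fun p hp => ?_
        · obtain ⟨θ, hθ⟩ := hTV p hp
          exact ⟨_, hθ.symm⟩
        · obtain ⟨θ, hθ⟩ := hTA p hp
          exact ⟨_, hθ.symm⟩
      rw [← Subgroup.subgroupOf_sup le_sup_left le_sup_right, Subgroup.subgroupOf_self] at htop
      exact htop (Subgroup.mem_top h)
    · rw [MonoidHom.range_eq_map ι, ← RootSubgroups.SL2.top_eq_sup, Subgroup.map_sup]
      refine sup_le ?_ ?_
      · rintro _ ⟨g, hg, rfl⟩
        obtain ⟨θ, rfl⟩ := RootSubgroups.SL2.mem_lower.1 hg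
        exact hrealV θ
      · rintro _ ⟨g, hg, rfl⟩
        obtain ⟨θ, rfl⟩ := RootSubgroups.SL2.mem_upper.1 hg
        exact hrealU θ
  exact ⟨↥K, inferInstance, inferInstance, hcardK, ⟨(QuotientGroup.quotientMulEquivOfEq hker.symm).trans
    ((QuotientGroup.quotientKerEquivRange ρ).trans ((MulEquiv.subgroupCongr hrange).trans
      (MonoidHom.ofInjective ιinj).symm))⟩⟩

end Cfsg.Agent.TI1786
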