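import Cfsg.Prelude.Def_Local
import Cfsg.Agent.Lib.Thompson.Cores
import Cfsg.Agent.Lib.Components.GenFitting

/-!
A trivial-intersection elementary abelian `2`-subgroup which is a maximal abelian normal subgroup
of its normalizer: basic consequences.
-/

set_option autoImplicit false
set_option linter.style.haveILetI false

namespace Cfsg.Agent.TI1786

open Cfsg

variable {G : Type*} [Group G]

/-- Conjugate of a subgroup. -/
abbrev cj (x : G) (H : Subgroup G) : Subgroup G := H.map (MulAut.conj x).toMonoidHom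

theorem mem_cj {x y : G} {H : Subgroup G} : y ∈ cj x H ↔ x⁻¹ * y * x ∈ H := by
  refine ⟨?_, fun h => ⟨_, h, by simp [mul_assoc]⟩⟩
  rintro ⟨z, hz, rfl⟩
  simpa [mul_assoc] using hz

theorem conj_mem_cj {x y : G} {H : Subgroup G} (h : y ∈ H) : x * y * x⁻¹ ∈ cj x H :=
  ⟨y, h, rfl⟩

theorem cj_cj (x y : G) (H : Subgroup G) : cj x (cj y H) = cj (x * y) H := by
  ext z; simp [mem_cj, mul_assoc]

theorem cj_one (H : Subgroup G) : cj (1 : G) H = H := by
  ext z; simp [mem_cj]

theorem card_cj (x : G) (H : Subgroup G) : Nat.card (cj x H) = Nat.card H :=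
  Subgroup.card_map_of_injective (MulAut.conj x).injective

theorem mem_normalizer_iff_cj {x : G} {H : Subgroup G} :
    x ∈ Subgroup.normalizer (H : Set G) ↔ cj x H = H := by
  constructor
  · intro hx
    ext y
    rw [mem_cj]
    have := (Subgroup.mem_normalizer_iff.1 hx (x⁻¹ * y * x))
    simpa [mul_assoc] using this
  · intro h
    refine Subgroup.mem_normalizer_iff.2 fun y => ?_
    conv_rhs => rw [← h, mem_cj]
    simp [mul_assoc]

/-- The largest normal `2`-subgroup of the normalizer. -/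
def Qsub (V : Subgroup G) : Subgroup G :=
  (pCore 2 ↥(Subgroup.normalizer (V : Set G))).map (Subgroup.normalizer (V : Set G)).subtype

/-- The centralizer of `V` in `Qsub V`. -/
def Psub (V : Subgroup G) : Subgroup G := Qsub V ⊓ Subgroup.centralizer (V : Set G)

/-- The hypotheses on `V`. -/
structure TI (V : Subgroup G) : Prop where
  elem : ∀ a ∈ V, a * a = 1
  ne : V ≠ ⊥
  ti : ∀ x v : G, v ∈ V → v ≠ 1 → x * v * x⁻¹ ∈ V → x ∈ Subgroup.normalizer (V : Set G)
  core : ∀ y ∈ Subgroup.normalizer (V : Set G),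
    (∀ q ∈ Qsub V, q * y = y * q) → y ∈ Qsub V
  maxab : ∀ A : Subgroup G, V ≤ A → A ≤ Subgroup.normalizer (V : Set G) → IsMulCommutative ↥A →
    (∀ m ∈ Subgroup.normalizer (V : Set G), ∀ a ∈ A, m * a * m⁻¹ ∈ A) → A = V

/-- `A` is a conjugate of `V`. -/
def IsC (V A : Subgroup G) : Prop := ∃ x : G, A = cj x V

theorem IsC.self (V : Subgroup G) : IsC V V := ⟨1, (cj_one V).symm⟩

theorem IsC.cj {V A : Subgroup G} (h : IsC V A) (y : G) : IsC V (TI1786.cj y A) := by
  obtain ⟨x, rfl⟩ := h; exact ⟨y * x, cj_cj y x V⟩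

/-- A conjugate of `V`, other than `V`, in `Qsub V`. -/
structure Mem (V A : Subgroup G) : Prop where
  conj : IsC V A
  ne : A ≠ V
  le : A ≤ Qsub V

/-- The deviation of `p` on `a`. -/
def tw (p a : G) : G := a⁻¹ * (p * a * p⁻¹)

theorem conj_eq_mul_tw (p a : G) : p * a * p⁻¹ = a * tw p a := by simp [tw]

theorem tw_eq_one_iff {p a : G} : tw p a = 1 ↔ p * a = a * p := by
  rw [tw, inv_mul_eq_one, eq_comm, mul_inv_eq_iff_eq_mul]

theorem Qsub_le (V : Subgroup G) : Qsub V ≤ Subgroup.normalizer (V : Set G) :=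
  Subgroup.map_subtype_le _

theorem Qsub_normal {V : Subgroup G} {m q : G} (hm : m ∈ Subgroup.normalizer (V : Set G))
    (hq : q ∈ Qsub V) : m * q * m⁻¹ ∈ Qsub V := by
  obtain ⟨q', hq', rfl⟩ := hq
  exact ⟨⟨m, hm⟩ * q' * ⟨m, hm⟩⁻¹, Thompson.instPCoreNormal.conj_mem _ hq' _, rfl⟩

variable [Finite G]

theorem Qsub_isPGroup (V : Subgroup G) : IsPGroup 2 ↥(Qsub V) := by
  haveI : Fact (Nat.Prime 2) := ⟨Nat.prime_two⟩
  exact Thompson.isPGroup_pCore.map _

theorem le_Qsub {V K : Subgroup G} (hK : K ≤ Subgroup.normalizer (V : Set G)) (h2 : IsPGroup 2 ↥K)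
    (hn : ∀ m ∈ Subgroup.normalizer (V : Set G), ∀ k ∈ K, m * k * m⁻¹ ∈ K) : K ≤ Qsub V := by
  intro k hk
  refine ⟨⟨k, hK hk⟩, Thompson.le_pCore (N := K.subgroupOf (Subgroup.normalizer (V : Set G))) ?_ ?_ hk, rfl⟩
  · exact ⟨fun z hz m => hn m m.2 z hz⟩
  · exact h2.of_equiv (Subgroup.subgroupOfEquivOfLe hK).symm

theorem cj_normalizer (x : G) (V : Subgroup G) :
    cj x (Subgroup.normalizer (V : Set G)) = Subgroup.normalizer ((cj x V : Subgroup G) : Set G) := by
  ext y
  rw [mem_cj, mem_normalizer_iff_cj, mem_normalizer_iff_cj, cj_cj]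
  constructor
  · intro h
    calc cj (y * x) V = cj (x * (x⁻¹ * y * x)) V := by simp [mul_assoc]
      _ = cj x V := by rw [← cj_cj, h]
  · intro h
    calc cj (x⁻¹ * y * x) V = cj x⁻¹ (cj (y * x) V) := by rw [cj_cj]; simp [mul_assoc]
      _ = V := by rw [h, cj_cj]; simp [cj_one]

theorem cj_Qsub_le (x : G) (V : Subgroup G) : cj x (Qsub V) ≤ Qsub (cj x V) := by
  refine le_Qsub ?_ ((Qsub_isPGroup V).map _) ?_
  · rw [← cj_normalizer]; exact Subgroup.map_mono (Qsub_le V)
  · intro m hm k hk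
    rw [← cj_normalizer, mem_cj] at hm
    rw [mem_cj] at hk ⊢
    have := Qsub_normal hm hk
    simpa [mul_assoc] using this

theorem cj_Qsub (x : G) (V : Subgroup G) : cj x (Qsub V) = Qsub (cj x V) := by
  refine le_antisymm (cj_Qsub_le x V) ?_
  have h := Subgroup.map_mono (f := (MulAut.conj x).toMonoidHom) (cj_Qsub_le x⁻¹ (cj x V))
  change cj x (cj x⁻¹ (Qsub (cj x V))) ≤ cj x (Qsub (cj x⁻¹ (cj x V))) at h
  simpa [cj_cj, cj_one] using h

theorem cj_centralizer (x : G) (V : Subgroup G) :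
    cj x (Subgroup.centralizer (V : Set G)) = Subgroup.centralizer ((cj x V : Subgroup G) : Set G) := by
  ext y
  rw [mem_cj, Subgroup.mem_centralizer_iff, Subgroup.mem_centralizer_iff]
  constructor
  · rintro h _ ⟨v, hv, rfl⟩
    have := congrArg (fun z => x * z * x⁻¹) (h v hv)
    simpa [mul_assoc] using this
  · intro h v hv
    have := congrArg (fun z => x⁻¹ * z * x) (h _ (conj_mem_cj (x := x) hv))
    simpa [mul_assoc] using this

theorem cj_Psub (x : G) (V : Subgroup G) : cj x (Psub V) = Psub (cj x V) := by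
  unfold Psub
  rw [← cj_Qsub, ← cj_centralizer]
  exact Subgroup.map_inf _ _ _ (MulAut.conj x).injective

theorem TI.cj {V : Subgroup G} (h : TI V) (x : G) : TI (TI1786.cj x V) where
  elem a ha := by
    obtain ⟨v, hv, rfl⟩ := ha
    rw [← map_mul, h.elem v hv, map_one]
  ne hb := h.ne (by
    rw [← cj_one V, ← inv_mul_cancel x, ← cj_cj, hb]
    exact Subgroup.map_bot _)
  ti y v hv hv1 hyv := by
    rw [← cj_normalizer, mem_cj]
    rw [mem_cj] at hv hyv
    refine h.ti _ (x⁻¹ * v * x) hv (fun he => hv1 ?_) ?_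
    · calc v = x * (x⁻¹ * v * x) * x⁻¹ := by group
        _ = 1 := by rw [he]; group
    · simpa [mul_assoc] using hyv
  core y hy hc := by
    rw [← cj_normalizer, mem_cj] at hy
    rw [← cj_Qsub, mem_cj]
    refine h.core _ hy fun q hq => ?_
    have := congrArg (fun z => x⁻¹ * z * x)
      (hc (x * q * x⁻¹) (cj_Qsub x V ▸ conj_mem_cj hq))
    simpa [mul_assoc] using this
  maxab A hVA hAN hAc hAn := by
    have key : TI1786.cj x⁻¹ A = V := by
      refine h.maxab _ ?_ ?_ ?_ ?_
      · intro v hv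
        rw [mem_cj, inv_inv]
        exact hVA (conj_mem_cj hv)
      · intro a ha
        rw [mem_cj, inv_inv] at ha
        have := hAN ha
        rw [← cj_normalizer, mem_cj] at this
        simpa [mul_assoc] using this
      · constructor
        constructor
        rintro ⟨_, a, ha, rfl⟩ ⟨_, b, hb, rfl⟩
        have := hAc.is_comm.comm (⟨a, ha⟩ : ↥A) ⟨b, hb⟩
        exact Subtype.ext (by
          simp only [Subgroup.coe_mul, ← map_mul]
          exact congrArg _ (congrArg Subtype.val this))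
      · intro m hm a ha
        rw [mem_cj, inv_inv] at ha ⊢
        have := hAn (x * m * x⁻¹) (by rw [← cj_normalizer]; exact conj_mem_cj hm) _ ha
        simpa [mul_assoc] using this
    rw [← key, cj_cj, mul_inv_cancel, cj_one]

section

variable {V : Subgroup G} (hT : TI V)

include hT

theorem TI.inv {a : G} (ha : a ∈ V) : a⁻¹ = a := inv_eq_of_mul_eq_one_right (hT.elem a ha)

theorem TI.comm {a b : G} (ha : a ∈ V) (hb : b ∈ V) : a * b = b * a := by
  have h := hT.inv (V.mul_mem ha hb)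
  rwa [mul_inv_rev, hT.inv ha, hT.inv hb, eq_comm] at h

theorem TI.of_isC {A : Subgroup G} (hA : IsC V A) : TI A := by
  obtain ⟨x, rfl⟩ := hA; exact hT.cj x

omit hT in
theorem card_eq {A : Subgroup G} (hA : IsC V A) : Nat.card A = Nat.card V := by
  obtain ⟨x, rfl⟩ := hA; exact card_cj x V

theorem eq_of_mem {A B : Subgroup G} (hA : IsC V A) (hB : IsC V B) {u : G} (huA : u ∈ A)
    (huB : u ∈ B) (hu : u ≠ 1) : A = B := by
  obtain ⟨x, rfl⟩ := hA
  obtain ⟨y, rfl⟩ := hB
  rw [mem_cj] at huA huB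
  have hn : y⁻¹ * x ∈ Subgroup.normalizer (V : Set G) := by
    refine hT.ti _ (x⁻¹ * u * x) huA (fun he => hu ?_) ?_
    · calc u = x * (x⁻¹ * u * x) * x⁻¹ := by group
        _ = 1 := by rw [he]; group
    · simpa [mul_assoc] using huB
  rw [mem_normalizer_iff_cj] at hn
  conv_rhs => rw [← hn, cj_cj]
  simp

theorem normalizer_of_centralizes {A : Subgroup G} (hA : IsC V A) {u y : G} (hu : u ∈ A)
    (hu1 : u ≠ 1) (hy : y * u = u * y) : y ∈ Subgroup.normalizer (A : Set G) :=
  (hT.of_isC hA).ti y u hu hu1 (by rw [hy, mul_inv_cancel_right]; exact hu)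

/-- Conjugates of which one normalizes the other commute. -/
theorem comm_of_normalizes {A B : Subgroup G} (hA : IsC V A) (hB : IsC V B) (hne : A ≠ B)
    (hBA : B ≤ Subgroup.normalizer (A : Set G)) : ∀ a ∈ A, ∀ b ∈ B, a * b = b * a := by
  classical
  have tA := hT.of_isC hA
  have tB := hT.of_isC hB
  have hconjA : ∀ b ∈ B, ∀ a ∈ A, b * a * b⁻¹ ∈ A := fun b hb a ha =>
    (Subgroup.mem_normalizer_iff.1 (hBA hb) a).1 ha
  -- an element of `A` centralizing one element of `B` centralizes all of `B`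
  have h0 : ∀ a ∈ A, ∀ b ∈ B, b ≠ 1 → a * b = b * a → ∀ b' ∈ B, a * b' = b' * a := by
    intro a ha b hb hb1 hab b' hb'
    have hn := normalizer_of_centralizes hT hB hb hb1 hab
    have h1 : a * b' * a⁻¹ * b'⁻¹ ∈ B :=
      B.mul_mem ((Subgroup.mem_normalizer_iff.1 hn b').1 hb') (B.inv_mem hb')
    have h2 : a * b' * a⁻¹ * b'⁻¹ ∈ A := by
      have := A.mul_mem ha (hconjA b' hb' _ (A.inv_mem ha))
      simpa [mul_assoc] using this
    by_contra hne'
    refine hne (eq_of_mem hT hA hB h2 h1 fun he => hne' ?_)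
    calc a * b' = a * b' * a⁻¹ * b'⁻¹ * (b' * a) := by group
      _ = b' * a := by rw [he, one_mul]
  intro v hv b₀ hb₀
  by_contra hvb
  have hv0 : ∀ b ∈ B, b ≠ 1 → v * b ≠ b * v := fun b hb hb1 he => hvb (h0 v hv b hb hb1 he b₀ hb₀)
  let A₀ : Subgroup G := A ⊓ Subgroup.centralizer (B : Set G)
  have hmem : ∀ b : ↥B, v * (b : G) * v * b ∈ A₀ := by
    intro b
    have hu : v * (b : G) * v * b ∈ A := by
      have h := A.mul_mem hv (hconjA _ b.2 v hv)
      rw [tB.inv b.2] at h
      simpa [mul_assoc] using h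
    refine ⟨hu, Subgroup.mem_centralizer_iff.2 fun b' hb' => ?_⟩
    rcases eq_or_ne (b : G) 1 with hb1 | hb1
    · simp [hb1, tA.elem v hv]
    refine (h0 _ hu _ b.2 hb1 ?_ b' hb').symm
    have hinv := tA.inv hu
    rw [mul_inv_rev, mul_inv_rev, mul_inv_rev, tB.inv b.2, tA.inv hv] at hinv
    calc v * (b : G) * v * b * b = v * b * v := by rw [mul_assoc _ (b : G) b, tB.elem _ b.2, mul_one]
      _ = ↑b * (↑b * (v * (↑b * v))) := by
        rw [← mul_assoc (b : G) b, tB.elem _ b.2, one_mul, mul_assoc]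
      _ = ↑b * (v * ↑b * v * ↑b) := by rw [hinv]
  let f : ↥B → ↥A₀ := fun b => ⟨_, hmem b⟩
  have hf : Function.Injective f := by
    intro b b' he
    by_contra hne'
    have he' : v * (b : G) * v * b = v * (b' : G) * v * b' := congrArg Subtype.val he
    refine hv0 ((b : G) * b') (B.mul_mem b.2 b'.2) (fun h1 => hne' (Subtype.ext ?_)) ?_
    · rw [eq_comm, ← tB.inv b.2, eq_comm]; exact eq_inv_of_mul_eq_one_left (by
        rw [← tB.comm b.2 b'.2]; exact h1) |>.symm
    · simp only [mul_assoc, mul_left_cancel_iff] at he'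
      have he'' : (b : G) * v * b = b' * v * b' := by simpa [mul_assoc] using he'
      calc v * ((b : G) * b') = (b : G) * (↑b * v * ↑b) * b' := by
            simp only [mul_assoc]; rw [← mul_assoc (b : G) b, tB.elem _ b.2, one_mul]
        _ = (b : G) * (↑b' * v * ↑b') * b' := by rw [he'']
        _ = (b : G) * ↑b' * v := by
            simp only [mul_assoc]; rw [tB.elem _ b'.2, mul_one]
  have hle : Nat.card B ≤ Nat.card A₀ := Nat.card_le_card_of_injective f hf
  have heq : A₀ = A := Subgroup.eq_of_le_of_card_ge inf_le_left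
    (by rw [card_eq hA, ← card_eq hB]; exact hle)
  have hvA0 : v ∈ A₀ := heq.symm ▸ hv
  exact hvb (Subgroup.mem_centralizer_iff.1 hvA0.2 b₀ hb₀).symm

omit hT in
theorem Psub_le_centralizer {p v : G} (hp : p ∈ Psub V) (hv : v ∈ V) : p * v = v * p :=
  (Subgroup.mem_centralizer_iff.1 hp.2 v hv).symm

omit hT in
theorem Psub_normal {m p : G} (hm : m ∈ Subgroup.normalizer (V : Set G)) (hp : p ∈ Psub V) :
    m * p * m⁻¹ ∈ Psub V := by
  refine ⟨Qsub_normal hm hp.1, Subgroup.mem_centralizer_iff.2 fun v hv => ?_⟩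
  have h1 := (Subgroup.mem_normalizer_iff.1 (inv_mem hm) v).1 hv
  rw [inv_inv] at h1
  have h2 := congrArg (fun z => m * z * m⁻¹) (Psub_le_centralizer hp h1)
  simpa [mul_assoc] using h2.symm

theorem le_Psub : V ≤ Psub V := by
  refine le_inf (le_Qsub Subgroup.le_normalizer ?_ fun m hm v hv =>
    (Subgroup.mem_normalizer_iff.1 hm v).1 hv) ?_
  · exact fun v => ⟨1, Subtype.ext (by simpa [pow_two] using hT.elem v v.2)⟩
  · exact fun v hv => Subgroup.mem_centralizer_iff.2 fun w hw => hT.comm hw hv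

theorem Mem.le_Psub {A : Subgroup G} (hA : Mem V A) : A ≤ Psub V := fun a ha => ⟨hA.le ha,
  Subgroup.mem_centralizer_iff.2 fun v hv => comm_of_normalizes hT (IsC.self V) hA.conj hA.ne.symm
    (hA.le.trans (Qsub_le V)) v hv a ha⟩

omit hT in
/-- The `i`-th term of the lower central series of `Psub V`. -/
theorem Psub_isPGroup : IsPGroup 2 ↥(Psub V) := (Qsub_isPGroup V).to_le inf_le_left

theorem Psub_center {z : G} (hz : z ∈ Psub V) (hc : ∀ p ∈ Psub V, p * z = z * p) : z ∈ V := by
  let Z : Subgroup G := Psub V ⊓ Subgroup.centralizer (Psub V : Set G)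
  have hZ : Z = V := by
    refine hT.maxab Z (le_inf (TI1786.le_Psub hT) fun v hv => Subgroup.mem_centralizer_iff.2
      fun p hp => Psub_le_centralizer hp hv) (inf_le_left.trans (inf_le_left.trans (Qsub_le V)))
      ⟨⟨fun a b => Subtype.ext (Subgroup.mem_centralizer_iff.1 b.2.2 a a.2.1)⟩⟩ ?_
    intro m hm a ha
    refine ⟨Psub_normal hm ha.1, Subgroup.mem_centralizer_iff.2 fun p hp => ?_⟩
    have h1 := Psub_normal (inv_mem hm) hp
    rw [inv_inv] at h1
    have h2 := congrArg (fun z => m * z * m⁻¹) (Subgroup.mem_centralizer_iff.1 ha.2 _ h1)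
    simpa [mul_assoc] using h2
  rw [← hZ]
  exact ⟨hz, Subgroup.mem_centralizer_iff.2 hc⟩

open scoped commutatorElement in
theorem Psub_commutator : ⁅Psub V, Psub V⁆ ≤ V := by
  classical
  haveI : Fact (Nat.Prime 2) := ⟨Nat.prime_two⟩
  haveI : Group.IsNilpotent ↥(Psub V) := Psub_isPGroup.isNilpotent
  set P := Psub V with hP
  let K : ℕ → Subgroup G := fun i => P.lowerCentralSeries i
  have hK0 : K 0 = P := Subgroup.lowerCentralSeries_zero P
  have hKs : ∀ i, K (i + 1) = ⁅K i, P⁆ := fun i => Subgroup.lowerCentralSeries_succ P i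
  have hKP : ∀ i, K i ≤ P := fun i => Subgroup.lowerCentralSeries_le_self P i
  have hKn : ∀ i, ∀ m ∈ Subgroup.normalizer (V : Set G), cj m (K i) ≤ K i := by
    intro i
    induction i with
    | zero =>
      intro m hm
      rw [hK0]
      rintro _ ⟨p, hp, rfl⟩
      exact Psub_normal hm hp
    | succ i ih =>
      intro m hm
      rw [hKs]
      show Subgroup.map _ ⁅K i, P⁆ ≤ _
      rw [Subgroup.map_commutator]
      refine Subgroup.commutator_mono (ih m hm) ?_
      rintro _ ⟨p, hp, rfl⟩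
      exact Psub_normal hm hp
  obtain ⟨n, hn⟩ := (Subgroup.isNilpotent_iff_lowerCentralSeries (S := P)).1 inferInstance
  have hex : ∀ i, i ≤ n → K (n - i + 1) ≤ V := by
    intro i
    induction i with
    | zero =>
      intro _
      rw [hKs, Nat.sub_zero]
      show ⁅P.lowerCentralSeries n, P⁆ ≤ V
      rw [hn, Subgroup.commutator_bot_left]
      exact bot_le
    | succ i ih =>
      intro hi
      set k := n - (i + 1) with hk
      have hprev : K (k + 1 + 1) ≤ V := by
        have := ih (by omega)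
        rwa [show n - i = k + 1 by omega] at this
      rw [hKs (k + 1)] at hprev
      have hbot : ⁅⁅K (k + 1), P⁆, P⁆ = ⊥ := by
        refine le_bot_iff.1 ((Subgroup.commutator_mono hprev le_rfl).trans ?_)
        exact (Subgroup.commutator_eq_bot_iff_le_centralizer.2 fun v hv =>
          Subgroup.mem_centralizer_iff.2 fun p hp => Psub_le_centralizer hp hv).le
      have hcomm : ⁅⁅P, P⁆, K (k + 1)⁆ = ⊥ :=
        Subgroup.commutator_commutator_eq_bot_of_rotate (by rwa [Subgroup.commutator_comm P]) hbot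
      have hkP : K (k + 1) ≤ ⁅P, P⁆ := by
        rw [hKs]; exact Subgroup.commutator_mono (hKP k) le_rfl
      have hab : IsMulCommutative ↥(K (k + 1) ⊔ V) := by
        have hcen : K (k + 1) ⊔ V ≤ Subgroup.centralizer ((K (k + 1) ⊔ V : Subgroup G) : Set G) := by
          have hKK : K (k + 1) ≤ Subgroup.centralizer (K (k + 1) : Set G) :=
            Subgroup.commutator_eq_bot_iff_le_centralizer.1
              (le_bot_iff.1 (hcomm ▸ Subgroup.commutator_mono hkP le_rfl))
          have h1 : K (k + 1) ⊔ V ≤ Subgroup.centralizer (K (k + 1) : Set G) :=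
            sup_le hKK fun v hv => Subgroup.mem_centralizer_iff.2 fun p hp =>
              Psub_le_centralizer (hKP _ hp) hv
          have h2 : K (k + 1) ⊔ V ≤ Subgroup.centralizer (V : Set G) :=
            sup_le ((hKP _).trans inf_le_right) fun v hv => Subgroup.mem_centralizer_iff.2
              fun w hw => hT.comm hw hv
          exact Subgroup.le_centralizer_iff.2 (sup_le (Subgroup.le_centralizer_iff.1 h1)
            (Subgroup.le_centralizer_iff.1 h2))
        exact ⟨⟨fun a b => Subtype.ext (Subgroup.mem_centralizer_iff.1 (hcen b.2) a a.2)⟩⟩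
      have hVK := hT.maxab (K (k + 1) ⊔ V) le_sup_right
        (sup_le ((hKP _).trans (inf_le_left.trans (Qsub_le V))) Subgroup.le_normalizer) hab ?_
      · exact le_sup_left.trans_eq hVK
      · intro m hm a ha
        have : cj m (K (k + 1) ⊔ V) ≤ K (k + 1) ⊔ V := by
          show Subgroup.map _ (K (k + 1) ⊔ V) ≤ _
          rw [Subgroup.map_sup]
          exact sup_le_sup (hKn _ m hm) (le_of_eq (mem_normalizer_iff_cj.1 hm))
        exact this (conj_mem_cj ha)
  have h1 := hex n le_rfl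
  rw [Nat.sub_self, hKs, hK0] at h1
  exact h1

theorem tw_mem {p a : G} (hp : p ∈ Psub V) (ha : a ∈ Psub V) : tw p a ∈ V := by
  have h := Psub_commutator hT (Subgroup.commutator_mem_commutator ((Psub V).inv_mem ha) hp)
  simpa [tw, commutatorElement_def, mul_assoc] using h

theorem tw_mul_left {p q a : G} (hp : p ∈ Psub V) (hq : q ∈ Psub V) (ha : a ∈ Psub V) :
    tw (p * q) a = tw p a * tw q a := by
  have h : tw q a * p⁻¹ = p⁻¹ * tw q a :=
    (Psub_le_centralizer ((Psub V).inv_mem hp) (tw_mem hT hq ha)).symm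
  calc tw (p * q) a = a⁻¹ * p * (a * tw q a) * p⁻¹ := by rw [← conj_eq_mul_tw]; simp [tw, mul_assoc]
    _ = a⁻¹ * p * a * (tw q a * p⁻¹) := by group
    _ = a⁻¹ * p * a * (p⁻¹ * tw q a) := by rw [h]
    _ = tw p a * tw q a := by simp [tw, mul_assoc]

theorem tw_mul_right {p a a' : G} (hp : p ∈ Psub V) (ha : a ∈ Psub V) (ha' : a' ∈ Psub V) :
    tw p (a * a') = tw p a * tw p a' := by
  have h : a'⁻¹ * tw p a = tw p a * a'⁻¹ :=
    Psub_le_centralizer ((Psub V).inv_mem ha') (tw_mem hT hp ha)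
  calc tw p (a * a') = a'⁻¹ * tw p a * (p * a' * p⁻¹) := by simp [tw, mul_assoc]
    _ = tw p a * a'⁻¹ * (p * a' * p⁻¹) := by rw [h]
    _ = tw p a * tw p a' := by simp [tw, mul_assoc]

theorem Psub_sq {p : G} (hp : p ∈ Psub V) : p * p ∈ V := by
  refine Psub_center hT ((Psub V).mul_mem hp hp) fun x hx => (tw_eq_one_iff.1 ?_).symm
  rw [tw_mul_left hT hp hp hx, hT.elem _ (tw_mem hT hp hx)]

/-- An element of `Psub V` centralizing one nontrivial element of `A` centralizes `A`. -/
theorem Mem.comm_of_one {A : Subgroup G} (hA : Mem V A) {p a : G} (hp : p ∈ Psub V) (ha : a ∈ A)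
    (ha1 : a ≠ 1) (h : p * a = a * p) {a' : G} (ha' : a' ∈ A) : p * a' = a' * p := by
  rw [← tw_eq_one_iff]
  have h1 : tw p a' ∈ A := A.mul_mem (A.inv_mem ha')
    ((Subgroup.mem_normalizer_iff.1 (normalizer_of_centralizes hT hA.conj ha ha1 h) a').1 ha')
  by_contra h2
  exact hA.ne (eq_of_mem hT hA.conj (IsC.self V) h1 (tw_mem hT hp (hA.le_Psub hT ha')) h2)

/-- The members of `Qsub V` acting trivially on `Psub V` modulo `V` lie in `Psub V`. -/
theorem mem_Psub_of_trivial {y : G} (hy : y ∈ Subgroup.normalizer (V : Set G))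
    (hyc : y ∈ Subgroup.centralizer (V : Set G)) (htw : ∀ p ∈ Psub V, tw y p ∈ V) : y ∈ Psub V := by
  classical
  haveI : Fact (Nat.Prime 2) := ⟨Nat.prime_two⟩
  let K : Subgroup G :=
    { carrier := {y | y ∈ Subgroup.normalizer (V : Set G) ∧ y ∈ Subgroup.centralizer (V : Set G) ∧
        ∀ p ∈ Psub V, tw y p ∈ V}
      one_mem' := ⟨one_mem _, one_mem _, fun p _ => by simp [tw]⟩
      mul_mem' := by
        rintro a b ⟨ha, ha', ha''⟩ ⟨hb, hb', hb''⟩
        refine ⟨mul_mem ha hb, mul_mem ha' hb', fun p hp => ?_⟩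
        have h1 : tw b p * a⁻¹ = a⁻¹ * tw b p :=
          Subgroup.mem_centralizer_iff.1 (inv_mem ha') _ (hb'' p hp)
        have e : tw (a * b) p = tw a p * tw b p := by
          calc tw (a * b) p = p⁻¹ * a * (p * tw b p) * a⁻¹ := by
                rw [← conj_eq_mul_tw]; simp [tw, mul_assoc]
            _ = p⁻¹ * a * p * (tw b p * a⁻¹) := by group
            _ = p⁻¹ * a * p * (a⁻¹ * tw b p) := by rw [h1]
            _ = tw a p * tw b p := by simp [tw, mul_assoc]
        rw [e]
        exact V.mul_mem (ha'' p hp) (hb'' p hp)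
      inv_mem' := by
        rintro a ⟨ha, ha', ha''⟩
        refine ⟨inv_mem ha, inv_mem ha', fun p hp => ?_⟩
        have hq : a⁻¹ * p * a ∈ Psub V := by
          simpa using Psub_normal (inv_mem ha) hp
        have h1 := ha'' _ hq
        have h2 := (Subgroup.mem_normalizer_iff.1 (inv_mem ha) _).1 (V.inv_mem h1)
        have h3 : a * (tw a (a⁻¹ * p * a))⁻¹ = (tw a (a⁻¹ * p * a))⁻¹ * a :=
          (Subgroup.mem_centralizer_iff.1 ha' _ (V.inv_mem h1)).symm
        have h4 : tw a⁻¹ p = (tw a (a⁻¹ * p * a))⁻¹ := by simp [tw, mul_assoc]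
        rw [h4]
        exact V.inv_mem h1 }
  have hKn : ∀ m ∈ Subgroup.normalizer (V : Set G), ∀ k ∈ K, m * k * m⁻¹ ∈ K := by
    rintro m hm k ⟨hk, hk', hk''⟩
    refine ⟨mul_mem (mul_mem hm hk) (inv_mem hm), Subgroup.mem_centralizer_iff.2 fun v hv => ?_,
      fun p hp => ?_⟩
    · have h1 := (Subgroup.mem_normalizer_iff.1 (inv_mem hm) v).1 hv
      rw [inv_inv] at h1
      have h2 := congrArg (fun z => m * z * m⁻¹) (Subgroup.mem_centralizer_iff.1 hk' _ h1)
      simpa [mul_assoc] using h2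
    · have hq : m⁻¹ * p * m ∈ Psub V := by simpa using Psub_normal (inv_mem hm) hp
      have h2 := (Subgroup.mem_normalizer_iff.1 hm _).1 (hk'' _ hq)
      simpa [tw, mul_assoc] using h2
  have hfix : ∀ (z x v : G), z * x * z⁻¹ = x * v → z * v = v * z → ∀ k : ℕ,
      z ^ k * x * (z ^ k)⁻¹ = x * v ^ k := by
    intro z x v h1 h2 k
    induction k with
    | zero => simp
    | succ k ih =>
      calc z ^ (k + 1) * x * (z ^ (k + 1))⁻¹ = z * (z ^ k * x * (z ^ k)⁻¹) * z⁻¹ := by
            rw [pow_succ']; group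
        _ = (z * x * z⁻¹) * (z * v ^ k * z⁻¹) := by rw [ih]; group
        _ = x * v ^ (k + 1) := by
            rw [h1, (show Commute z (v ^ k) from Commute.pow_right h2 k).eq, mul_inv_cancel_right,
              mul_assoc, ← pow_succ']
  have hodd : ∀ z ∈ K, Odd (orderOf z) → z = 1 := by
    rintro z ⟨hz, hz', hz''⟩ ho
    have hV2 : ∀ v ∈ V, v ^ orderOf z = 1 → v = 1 := by
      intro v hv hvk
      obtain ⟨j, hj⟩ := ho
      rwa [hj, pow_succ, pow_mul, pow_two, hT.elem v hv, one_pow, one_mul] at hvk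
    have hP : ∀ p ∈ Psub V, z * p = p * z := by
      intro p hp
      refine tw_eq_one_iff.1 (hV2 _ (hz'' p hp) ?_)
      have h := hfix z p _ (conj_eq_mul_tw z p)
        (Subgroup.mem_centralizer_iff.1 hz' _ (hz'' p hp)).symm (orderOf z)
      rw [pow_orderOf_eq_one] at h
      simpa using h
    have hQ : ∀ q ∈ Qsub V, q * z = z * q := by
      intro q hq
      have hu : tw z q ∈ Psub V := by
        refine ⟨(Qsub V).mul_mem ((Qsub V).inv_mem hq) (Qsub_normal hz hq),
          Subgroup.mem_centralizer_iff.2 fun v hv => ?_⟩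
        have hqn : q ∈ Subgroup.normalizer (V : Set G) := Qsub_le V hq
        have h1 : q * v * q⁻¹ ∈ V := (Subgroup.mem_normalizer_iff.1 hqn v).1 hv
        have hc1 := Subgroup.mem_centralizer_iff.1 hz' v hv
        have hc2 := Subgroup.mem_centralizer_iff.1 hz' _ h1
        calc v * tw z q = q⁻¹ * ((q * v * q⁻¹) * z) * q * z⁻¹ := by simp [tw, mul_assoc]
          _ = q⁻¹ * (z * (q * v * q⁻¹)) * q * z⁻¹ := by rw [hc2]
          _ = q⁻¹ * z * q * (v * z⁻¹) := by group
          _ = q⁻¹ * z * q * (z⁻¹ * v) := by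
            rw [Subgroup.mem_centralizer_iff.1 (inv_mem hz') v hv]
          _ = tw z q * v := by simp [tw, mul_assoc]
      have hV : tw z q ∈ V := by
        refine Psub_center hT hu fun p hp => ?_
        have hq' : q * p * q⁻¹ ∈ Psub V := Psub_normal (Qsub_le V hq) hp
        calc p * tw z q = q⁻¹ * ((q * p * q⁻¹) * z) * q * z⁻¹ := by simp [tw, mul_assoc]
          _ = q⁻¹ * (z * (q * p * q⁻¹)) * q * z⁻¹ := by rw [hP _ hq']
          _ = q⁻¹ * z * q * (p * z⁻¹) := by group
          _ = q⁻¹ * z * q * (z⁻¹ * p) := by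
            rw [(show Commute z p from hP p hp).inv_left.eq]
          _ = tw z q * p := by simp [tw, mul_assoc]
      refine (tw_eq_one_iff.1 (hV2 _ hV ?_)).symm
      have h := hfix z q _ (conj_eq_mul_tw z q)
        (Subgroup.mem_centralizer_iff.1 hz' _ hV).symm (orderOf z)
      rw [pow_orderOf_eq_one] at h
      simpa using h
    have hzQ := hT.core z hz hQ
    obtain ⟨k, hk⟩ := (IsPGroup.iff_orderOf.1 (Qsub_isPGroup V)) ⟨z, hzQ⟩
    rw [Subgroup.orderOf_mk] at hk
    rcases eq_or_ne k 0 with rfl | hk0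
    · exact orderOf_eq_one_iff.1 (by simpa using hk)
    · exfalso
      rw [hk, Nat.odd_pow_iff hk0] at ho
      exact absurd ho (by decide)
  have hK2 : IsPGroup 2 ↥K := by
    intro z
    obtain ⟨k, m, hm, hkm⟩ := Nat.exists_eq_pow_mul_and_not_dvd (orderOf_pos (z : G)).ne' 2 (by norm_num)
    refine ⟨k, Subtype.ext ?_⟩
    rw [Subgroup.coe_pow, Subgroup.coe_one]
    refine hodd _ (K.pow_mem z.2 _) ?_
    have : orderOf ((z : G) ^ 2 ^ k) = m := by
      rw [orderOf_pow_of_dvd (by positivity) (hkm ▸ dvd_mul_right _ _), hkm,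
        Nat.mul_div_cancel_left _ (by positivity)]
    rw [this]
    exact Nat.not_even_iff_odd.1 fun he => hm he.two_dvd
  have hKN : K ≤ Subgroup.normalizer (V : Set G) := by
    intro k hk
    exact hk.1
  exact ⟨le_Qsub hKN hK2 hKn (show y ∈ K from ⟨hy, hyc, htw⟩), hyc⟩

end

end Cfsg.Agent.TI1786
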