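import Cfsg.Agent.TI1786.Basic

/-!
The line through `V` and a conjugate in `Qsub V`, the symmetry of this relation and `Psub V = Qsub V`.
-/

set_option autoImplicit false
set_option linter.style.haveILetI false

namespace Cfsg.Agent.TI1786

open Cfsg

variable {G : Type*} [Group G] [Finite G] {V : Subgroup G}

/-- A conjugate of `V` in `Psub V` not commuting with `A`. -/
structure Partner (V A B : Subgroup G) : Prop where
  conj : IsC V B
  le : B ≤ Psub V
  noncomm : ¬ B ≤ Subgroup.centralizer (A : Set G)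

variable (hT : TI V) {A B : Subgroup G}

include hT

theorem exists_partner (hA : Mem V A) : ∃ B, Partner V A B := by
  classical
  have hmemC : ∀ m ∈ Subgroup.normalizer (V : Set G), cj m A ≤ Psub V := by
    rintro m hm _ ⟨a, ha, rfl⟩
    exact Psub_normal hm (hA.le_Psub hT ha)
  by_contra hno
  simp only [not_exists] at hno
  have hall : ∀ m ∈ Subgroup.normalizer (V : Set G), ∀ m' ∈ Subgroup.normalizer (V : Set G),
      ∀ a ∈ cj m A, ∀ b ∈ cj m' A, a * b = b * a := by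
    intro m hm m' hm' a ha b hb
    have h : cj (m⁻¹ * m') A ≤ Subgroup.centralizer (A : Set G) := by
      by_contra h
      exact hno _ ⟨hA.conj.cj _, hmemC _ (mul_mem (inv_mem hm) hm'), h⟩
    rw [mem_cj] at ha
    have hb' : m⁻¹ * b * m ∈ cj (m⁻¹ * m') A := by
      rw [mem_cj] at hb ⊢; simpa [mul_assoc] using hb
    have h2 := congrArg (fun z => m * z * m⁻¹) (Subgroup.mem_centralizer_iff.1 (h hb') _ ha)
    simpa [mul_assoc] using h2
  let S : Set G := (V : Set G) ∪ {a | ∃ m ∈ Subgroup.normalizer (V : Set G), a ∈ cj m A}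
  have hSP : ∀ a ∈ S, a ∈ Psub V := by
    rintro a (ha | ⟨m, hm, ha⟩)
    · exact TI1786.le_Psub hT ha
    · exact hmemC m hm ha
  have hSc : ∀ a ∈ S, ∀ b ∈ S, a * b = b * a := by
    rintro a ha b hb
    rcases ha with ha | ⟨m, hm, ha⟩
    · exact (Psub_le_centralizer (hSP b hb) ha).symm
    rcases hb with hb | ⟨m', hm', hb⟩
    · exact Psub_le_centralizer (hmemC m hm ha) hb
    exact hall m hm m' hm' a ha b hb
  have h := hT.maxab (Subgroup.closure S) (fun v hv => Subgroup.subset_closure (Or.inl hv))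
    ((Subgroup.closure_le _).2 fun a ha => Qsub_le V (hSP a ha).1)
    (Subgroup.isMulCommutative_closure hSc) ?_
  · refine hA.ne (Subgroup.eq_of_le_of_card_ge (fun a ha => h ▸ Subgroup.subset_closure
      (Or.inr ⟨1, one_mem _, by rwa [cj_one]⟩)) ?_)
    rw [card_eq hA.conj]
  · intro m hm a ha
    induction ha using Subgroup.closure_induction with
    | mem a ha =>
      refine Subgroup.subset_closure ?_
      rcases ha with ha | ⟨m', hm', ha⟩
      · exact Or.inl ((Subgroup.mem_normalizer_iff.1 hm a).1 ha)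
      · exact Or.inr ⟨m * m', mul_mem hm hm', by rw [← cj_cj]; exact conj_mem_cj ha⟩
    | one => simp
    | mul a b _ _ ha hb =>
      simpa [mul_assoc] using mul_mem ha hb
    | inv a _ ha => simpa [mul_assoc] using inv_mem ha

theorem Partner.ne_V (hA : Mem V A) (hB : Partner V A B) : B ≠ V := by
  rintro rfl
  exact hB.noncomm fun v hv => Subgroup.mem_centralizer_iff.2 fun a ha =>
    Psub_le_centralizer (hA.le_Psub hT ha) hv

theorem Partner.mem (hA : Mem V A) (hB : Partner V A B) : Mem V B :=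
  ⟨hB.conj, hB.ne_V hT hA, hB.le.trans inf_le_left⟩

/-- No nontrivial elements of partners commute. -/
theorem Partner.not_comm (hA : Mem V A) (hB : Partner V A B) {a b : G} (ha : a ∈ A) (ha1 : a ≠ 1)
    (hb : b ∈ B) (hb1 : b ≠ 1) : a * b ≠ b * a := by
  intro h
  refine hB.noncomm fun b' hb' => Subgroup.mem_centralizer_iff.2 fun a' ha' => ?_
  have h1 := hA.comm_of_one hT (hB.le hb) ha ha1 h.symm ha'
  exact (hB.mem hT hA).comm_of_one hT (hA.le_Psub hT ha') hb hb1 h1.symm hb'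

theorem Partner.symm (hA : Mem V A) (hB : Partner V A B) : Partner V B A :=
  ⟨hA.conj, hA.le_Psub hT, fun h => hB.noncomm fun b hb => Subgroup.mem_centralizer_iff.2 fun a ha =>
    (Subgroup.mem_centralizer_iff.1 (h ha) b hb).symm⟩

theorem Partner.tw_injective (hA : Mem V A) (hB : Partner V A B) {a b b' : G} (ha : a ∈ A)
    (ha1 : a ≠ 1) (hb : b ∈ B) (hb' : b' ∈ B) (h : tw b a = tw b' a) : b = b' := by
  by_contra hne
  refine hB.not_comm hT hA ha ha1 (B.mul_mem hb (B.inv_mem hb'))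
    (fun he => hne (mul_inv_eq_one.1 he)) (tw_eq_one_iff.1 ?_).symm
  have haP := hA.le_Psub hT ha
  have hBc := hB.le
  rw [tw_mul_left hT (hBc hb) (hBc (B.inv_mem hb')) haP, h,
    ← tw_mul_left hT (hBc hb') (hBc (B.inv_mem hb')) haP, mul_inv_cancel]
  simp [tw]

/-- The commutator with a nontrivial element of `A` maps `B` onto `V`. -/
theorem Partner.exists_tw (hA : Mem V A) (hB : Partner V A B) {a v : G} (ha : a ∈ A) (ha1 : a ≠ 1)
    (hv : v ∈ V) : ∃ b ∈ B, tw b a = v := by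
  classical
  have : Fintype ↥B := Fintype.ofFinite _
  let f : ↥B → ↥V := fun b => ⟨tw (b : G) a, tw_mem hT (hB.le b.2) (hA.le_Psub hT ha)⟩
  have hf : Function.Injective f := fun b b' h =>
    Subtype.ext (hB.tw_injective hT hA ha ha1 b.2 b'.2 (congrArg Subtype.val h))
  have hbij := (Nat.bijective_iff_injective_and_card f).2 ⟨hf, card_eq hB.conj⟩
  obtain ⟨b, hb⟩ := hbij.2 ⟨v, hv⟩
  exact ⟨b, b.2, congrArg Subtype.val hb⟩

theorem Partner.exists_tw' (hA : Mem V A) (hB : Partner V A B) {b v : G} (hb : b ∈ B) (hb1 : b ≠ 1)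
    (hv : v ∈ V) : ∃ a ∈ A, tw b a = v := by
  obtain ⟨a, ha, h⟩ := (hB.symm hT hA).exists_tw hT (hB.mem hT hA) hb hb1 hv
  refine ⟨a, ha, ?_⟩
  have tA := hT.of_isC hA.conj
  have tB := hT.of_isC hB.conj
  -- `tw b a` and `tw a b` agree
  have e : tw b a = (tw a b)⁻¹ := by
    simp [tw, mul_assoc, tA.inv ha, tB.inv hb]
  rw [e, h, hT.inv hv]

theorem mem_W_iff (hA : Mem V A) {w : G} : w ∈ V ⊔ A ↔ ∃ a ∈ A, ∃ v ∈ V, w = a * v := by
  constructor
  · intro hw
    have hn : A ≤ Subgroup.normalizer (V : Set G) := hA.le.trans (Qsub_le V)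
    rw [← SetLike.mem_coe, Subgroup.coe_mul_of_right_le_normalizer_left V A hn] at hw
    obtain ⟨v, hv, a, ha, rfl⟩ := hw
    exact ⟨a, ha, v, hv, (Psub_le_centralizer (hA.le_Psub hT ha) hv).symm⟩
  · rintro ⟨a, ha, v, hv, rfl⟩
    exact mul_mem (Subgroup.mem_sup_right ha) (Subgroup.mem_sup_left hv)

theorem cj_le_W (hA : Mem V A) {p : G} (hp : p ∈ Psub V) : cj p A ≤ V ⊔ A := by
  rintro _ ⟨a, ha, rfl⟩
  exact (mem_W_iff hT hA).2 ⟨a, ha, tw p a, tw_mem hT hp (hA.le_Psub hT ha), conj_eq_mul_tw p a⟩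

/-- The conjugates meeting the line nontrivially. -/
theorem conj_of_mem_W (hA : Mem V A) (hB : Partner V A B) {C : Subgroup G} (hC : IsC V C) {a v : G}
    (ha : a ∈ A) (ha1 : a ≠ 1) (hv : v ∈ V) (hC' : a * v ∈ C) : ∃ b ∈ B, C = cj b A := by
  obtain ⟨b, hb, hbv⟩ := hB.exists_tw hT hA ha ha1 hv
  refine ⟨b, hb, eq_of_mem hT hC (hA.conj.cj b) hC' ?_ ?_⟩
  · rw [← hbv, ← conj_eq_mul_tw]; exact conj_mem_cj ha
  · intro he
    exact hA.ne (eq_of_mem hT hA.conj (IsC.self V) ha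
      (by rw [eq_inv_of_mul_eq_one_left he]; exact V.inv_mem hv) ha1)

theorem exists_decomp (hA : Mem V A) (hB : Partner V A B) {p : G} (hp : p ∈ Psub V) :
    ∃ b ∈ B, ∀ a ∈ A, p * b * a = a * (p * b) := by
  obtain ⟨a₀, ha₀, ha₀1⟩ := (Subgroup.ne_bot_iff_exists_ne_one).1 (hT.of_isC hA.conj).ne |>
    fun ⟨x, hx⟩ => (⟨x.1, x.2, fun h => hx (Subtype.ext h)⟩ : ∃ a ∈ A, a ≠ 1)
  have ha₀P := hA.le_Psub hT ha₀
  have hv := tw_mem hT hp ha₀P
  obtain ⟨b, hb, hbv⟩ := hB.exists_tw hT hA ha₀ ha₀1 hv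
  refine ⟨b, hb, fun a ha => hA.comm_of_one hT ((Psub V).mul_mem hp (hB.le hb)) ha₀ ha₀1 ?_ ha⟩
  rw [← tw_eq_one_iff, tw_mul_left hT hp (hB.le hb) ha₀P, hbv, hT.elem _ hv]

/-- The centre of the centralizer of `A` in `Psub V` lies in the line. -/
theorem mem_W_of_central (hA : Mem V A) (hB : Partner V A B) {x : G} (hx : x ∈ Psub V)
    (hxA : ∀ a ∈ A, x * a = a * x)
    (hxR : ∀ r ∈ Psub V, (∀ a ∈ A, r * a = a * r) → x * r = r * x) : x ∈ V ⊔ A := by
  obtain ⟨a, ha, hac⟩ := exists_decomp hT (hB.mem hT hA) (hB.symm hT hA) hx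
  have haP := hA.le_Psub hT ha
  have hxa : x * a ∈ V := by
    refine Psub_center hT ((Psub V).mul_mem hx haP) fun p hp => ?_
    obtain ⟨b, hb, hbc⟩ := exists_decomp hT hA hB hp
    have h1 : Commute (x * a) (p * b) :=
      Commute.mul_left (hxR _ ((Psub V).mul_mem hp (hB.le hb)) hbc) (hbc a ha).symm
    have h2 : Commute (x * a) b := hac b hb
    have h3 := h1.mul_right h2.inv_right
    rw [mul_inv_cancel_right] at h3
    exact h3.eq.symm
  refine (mem_W_iff hT hA).2 ⟨a⁻¹, A.inv_mem ha, x * a, hxa, ?_⟩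
  rw [hxA a ha, inv_mul_cancel_left]

/-- If some element normalizing `A` moves `V` onto another member of the line, the relation is
symmetric. -/
theorem le_Qsub_of_move (hA : Mem V A) (hB : Partner V A B) {x b : G}
    (hx : x ∈ Subgroup.normalizer (A : Set G)) (hb : b ∈ B) (hb1 : b ≠ 1)
    (h : cj x V = cj b A) : V ≤ Qsub A := by
  have tB := hT.of_isC hB.conj
  have h1 : A ≤ cj b (Qsub A) := by
    rw [cj_Qsub, ← h, ← cj_Qsub]
    intro a ha
    rw [mem_cj]
    have hxi := (Subgroup.mem_normalizer_iff.1 (inv_mem hx) a).1 ha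
    rw [inv_inv] at hxi
    exact hA.le hxi
  intro v hv
  obtain ⟨a, ha, hbv⟩ := hB.exists_tw' hT hA hb hb1 hv
  have hself : A ≤ Qsub A := (TI1786.le_Psub (hT.of_isC hA.conj)).trans inf_le_left
  have h2 := h1 ha
  rw [mem_cj] at h2
  rw [← hbv, tw]
  refine mul_mem (inv_mem (hself ha)) ?_
  rw [tB.inv hb] at h2 ⊢
  exact h2

/-- The relation "is a conjugate contained in `Qsub`" is symmetric. -/
theorem le_Qsub_symm (hA : Mem V A) : V ≤ Qsub A := by
  classical
  haveI : Fact (Nat.Prime 2) := ⟨Nat.prime_two⟩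
  obtain ⟨B, hB⟩ := exists_partner hT hA
  have tA := hT.of_isC hA.conj
  have hAP := hA.le_Psub hT
  have hVA : ∀ v ∈ V, ∀ a ∈ A, v * a = a * v := fun v hv a ha =>
    (Psub_le_centralizer (hAP ha) hv).symm
  have hVN : V ≤ Subgroup.normalizer (A : Set G) := fun v hv =>
    Subgroup.centralizer_le_normalizer (A : Set G)
      (Subgroup.mem_centralizer_iff.2 fun a ha => (hVA v hv a ha).symm)
  by_contra hcon
  have hVc : ∀ v ∈ V, v ∈ Subgroup.centralizer (A : Set G) := fun v hv =>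
    Subgroup.mem_centralizer_iff.2 fun a ha => (hVA v hv a ha).symm
  -- moves of `V` along the line are excluded
  have hkey : ∀ x ∈ Subgroup.normalizer (A : Set G), ∀ a ∈ A, a ≠ 1 → ∀ v ∈ V,
      a * v ∈ cj x V → False := by
    intro x hx a ha ha1 v hv hmem
    obtain ⟨b, hb, hCb⟩ := conj_of_mem_W hT hA hB ((IsC.self V).cj x) ha ha1 hv hmem
    rcases eq_or_ne b 1 with rfl | hb1
    · rw [cj_one] at hCb
      refine hA.ne ?_
      have h2 := congrArg (TI1786.cj x⁻¹) hCb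
      rw [cj_cj, inv_mul_cancel, cj_one, mem_normalizer_iff_cj.1 (inv_mem hx)] at h2
      exact h2.symm
    · exact hcon (le_Qsub_of_move hT hA hB hx hb hb1 hCb)
  have hPAn : ∀ m ∈ Subgroup.normalizer (A : Set G), ∀ p ∈ Psub A, m * p * m⁻¹ ∈ Psub A :=
    fun m hm p hp => Psub_normal hm hp
  have hPAN : Psub A ≤ Subgroup.normalizer (A : Set G) := inf_le_left.trans (Qsub_le A)
  -- `V` meets `Psub A` trivially
  have hVPA : ∀ u ∈ V, u ∈ Psub A → u = 1 := by
    intro u hu huP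
    by_contra hu1
    obtain ⟨x, hxP, hx⟩ : ∃ x ∈ Psub A, x * u ≠ u * x := by
      by_contra h
      simp only [not_exists, not_and, not_not] at h
      exact hA.ne (eq_of_mem hT hA.conj (IsC.self V) (Psub_center tA huP h) hu hu1)
    have ha' := tw_mem tA hxP huP
    refine hkey x (hPAN hxP) _ ha' (fun he => hx (tw_eq_one_iff.1 he)) u hu ?_
    rw [← hVA u hu _ ha', ← conj_eq_mul_tw]
    exact conj_mem_cj hu
  let SA : Subgroup G := Psub A ⊓ Subgroup.normalizer (V : Set G)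
  have hSAV : ∀ s ∈ SA, ∀ v ∈ V, s * v = v * s := by
    intro s hs v hv
    have h1 : s * v * s⁻¹ * v⁻¹ ∈ V :=
      V.mul_mem ((Subgroup.mem_normalizer_iff.1 hs.2 v).1 hv) (V.inv_mem hv)
    have h2 : s * v * s⁻¹ * v⁻¹ ∈ Psub A := by
      have := (Psub A).mul_mem hs.1 (hPAn v (hVN hv) _ ((Psub A).inv_mem hs.1))
      simpa [mul_assoc] using this
    have h3 := hVPA _ h1 h2
    calc s * v = s * v * s⁻¹ * v⁻¹ * (v * s) := by group
      _ = v * s := by rw [h3, one_mul]
  have hSne : ¬ Psub A ≤ SA := by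
    intro hle
    obtain ⟨⟨v, hv⟩, hv1⟩ := Subgroup.ne_bot_iff_exists_ne_one.1 hT.ne
    refine hv1 (Subtype.ext (hVPA v hv ?_))
    refine mem_Psub_of_trivial tA (hVN hv) (hVc v hv) fun p hp => ?_
    rw [tw_eq_one_iff.2 (hSAV p (hle hp) v hv).symm]
    exact one_mem _
  -- an element moving `V`, with all commutators in `SA`
  have hVQ : IsPGroup 2 ↥V := fun v => ⟨1, Subtype.ext (by simpa [pow_two] using hT.elem v v.2)⟩
  have hnorm : V ≤ Subgroup.normalizer (Psub A : Set G) := fun v hv =>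
    Subgroup.mem_normalizer_iff.2 fun p => ⟨hPAn v (hVN hv) p, fun h => by
      have := hPAn v⁻¹ (inv_mem (hVN hv)) _ h
      simpa [mul_assoc] using this⟩
  let U : Subgroup G := V ⊔ Psub A
  haveI : Group.IsNilpotent ↥U :=
    (hVQ.to_sup_of_normal_right' (Psub_isPGroup (V := A)) hnorm).isNilpotent
  let Y : Subgroup G := V ⊔ SA
  have hYU : Y ≤ U := sup_le_sup le_rfl inf_le_left
  have hY : ∀ y ∈ Y, ∃ v ∈ V, ∃ s ∈ SA, y = v * s := by
    intro y hy
    have hn : SA ≤ Subgroup.normalizer (V : Set G) := inf_le_right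
    rw [show Y = V ⊔ SA from rfl, ← SetLike.mem_coe,
      Subgroup.coe_mul_of_right_le_normalizer_left V SA hn] at hy
    obtain ⟨v, hv, s, hs, rfl⟩ := hy
    exact ⟨v, hv, s, hs, rfl⟩
  have hUmem : ∀ u ∈ U, ∃ v ∈ V, ∃ p ∈ Psub A, u = v * p := by
    intro u hu
    have h := Subgroup.coe_mul_of_left_le_normalizer_right V (Psub A) hnorm
    rw [show U = V ⊔ Psub A from rfl, ← SetLike.mem_coe, h] at hu
    obtain ⟨v, hv, p, hp, rfl⟩ := hu
    exact ⟨v, hv, p, hp, rfl⟩
  have hlt : Y.subgroupOf U < ⊤ := by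
    rw [lt_top_iff_ne_top, Ne, Subgroup.subgroupOf_eq_top]
    intro hle
    refine hSne fun p hp => ?_
    obtain ⟨v, hv, s, hs, rfl⟩ := hY p (hle (Subgroup.mem_sup_right hp))
    have : v = 1 := hVPA v hv (by
      have := (Psub A).mul_mem hp ((Psub A).inv_mem hs.1)
      rwa [mul_inv_cancel_right] at this)
    rw [this, one_mul]; exact hs
  obtain ⟨⟨u, huU⟩, hun, huY⟩ := SetLike.exists_of_lt (Group.normalizerCondition_of_isNilpotent _ hlt)
  obtain ⟨v₀, hv₀, x, hxP, rfl⟩ := hUmem u huU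
  have hxS : x ∉ SA := fun h => huY (by
    rw [Subgroup.mem_subgroupOf]
    exact mul_mem (Subgroup.mem_sup_left hv₀) (Subgroup.mem_sup_right h))
  have hxV : x ∉ Subgroup.normalizer (V : Set G) := fun h => hxS ⟨hxP, h⟩
  have hxY : ∀ v ∈ V, x * v * x⁻¹ ∈ Y := by
    intro v hv
    have h := (Subgroup.mem_normalizer_iff.1 hun ⟨v, Subgroup.mem_sup_left hv⟩).1
      (Subgroup.mem_sup_left hv)
    rw [Subgroup.mem_subgroupOf] at h
    simp only [Subgroup.coe_mul, Subgroup.coe_inv] at h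
    have hY0 : v₀ ∈ Y := Subgroup.mem_sup_left hv₀
    have := mul_mem (mul_mem (inv_mem hY0) h) hY0
    simpa [mul_assoc] using this
  have hR : ∀ r ∈ Psub V, (∀ a ∈ A, r * a = a * r) → r ∈ Subgroup.normalizer (A : Set G) :=
    fun r _ hra => Subgroup.centralizer_le_normalizer (A : Set G)
      (Subgroup.mem_centralizer_iff.2 fun a ha => (hra a ha).symm)
  have hR1 : ∀ r ∈ Psub V, (∀ a ∈ A, r * a = a * r) → r ∈ Psub A → r ∈ A := by
    intro r hr hra hrA
    have hW : r ∈ V ⊔ A := by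
      refine mem_W_of_central hT hA hB hr hra fun r' hr' hra' => ?_
      have h1 : tw r' r ∈ Psub A := (Psub A).mul_mem ((Psub A).inv_mem hrA) (hPAn r' (hR r' hr' hra') r hrA)
      exact (tw_eq_one_iff.1 (hVPA _ (tw_mem hT hr' hr) h1)).symm
    obtain ⟨a, ha, v, hv, rfl⟩ := (mem_W_iff hT hA).1 hW
    have : v = 1 := hVPA v hv (by
      have := (Psub A).mul_mem ((Psub A).inv_mem (TI1786.le_Psub tA ha)) hrA
      rwa [inv_mul_cancel_left] at this)
    rw [this, mul_one]; exact ha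
  have hxA : ∀ a ∈ A, x * a = a * x := fun a ha => Psub_le_centralizer hxP ha
  obtain ⟨⟨v, hv⟩, hv1⟩ := Subgroup.ne_bot_iff_exists_ne_one.1 hT.ne
  have hv1' : v ≠ 1 := fun h => hv1 (Subtype.ext h)
  have hxi : x⁻¹ ∈ Subgroup.normalizer (A : Set G) := inv_mem (hPAN hxP)
  -- the element `e`
  obtain ⟨v', hv', e, he, hce⟩ := hY _ (hxY v hv)
  have hvv : v' = v := by
    have h1 : tw x v ∈ Psub A → v⁻¹ * v' ∈ Psub A := by
      intro h
      have := (Psub A).mul_mem h ((Psub A).inv_mem he.1)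
      rw [tw, hce] at this
      simpa [mul_assoc] using this
    have h2 : tw x v ∈ Psub A := by
      have := (Psub A).mul_mem (hPAn v⁻¹ (inv_mem (hVN hv)) x hxP) ((Psub A).inv_mem hxP)
      simpa [tw, mul_assoc] using this
    have := hVPA _ (V.mul_mem (V.inv_mem hv) hv') (h1 h2)
    exact (inv_mul_eq_one.1 this).symm
  subst hvv
  have he2 : e * e = 1 := by
    have h1 : (x * v' * x⁻¹) * (x * v' * x⁻¹) = 1 := by
      calc (x * v' * x⁻¹) * (x * v' * x⁻¹) = x * (v' * v') * x⁻¹ := by group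
        _ = 1 := by rw [hT.elem v' hv]; group
    rw [hce] at h1
    calc e * e = v' * v' * (e * e) := by rw [hT.elem v' hv, one_mul]
      _ = v' * (v' * e) * e := by group
      _ = v' * (e * v') * e := by rw [hSAV e he v' hv]
      _ = (v' * e) * (v' * e) := by group
      _ = 1 := h1
  have hei : e⁻¹ = e := inv_eq_of_mul_eq_one_right he2
  have heA : ∀ a ∈ A, e * a = a * e := fun a ha => Psub_le_centralizer he.1 ha
  have hec : e ∈ Subgroup.centralizer (V : Set G) :=
    Subgroup.mem_centralizer_iff.2 fun w hw => (hSAV e he w hw).symm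
  by_cases hcase : ∀ r ∈ Psub V, (∀ a ∈ A, r * a = a * r) → e * r = r * e
  · -- `e` lies in `A`
    have heP : e ∈ Psub V := by
      refine mem_Psub_of_trivial hT he.2 hec fun p hp => ?_
      obtain ⟨b, hb, hbc⟩ := exists_decomp hT hA hB hp
      have tB := hT.of_isC hB.conj
      have hbP := hB.le hb
      have hebP : e * b * e⁻¹ ∈ Psub V := Psub_normal he.2 hbP
      let r₀ := b * (e * b * e⁻¹)
      have hr₀P : r₀ ∈ Psub V := (Psub V).mul_mem hbP hebP
      have hcr : ∀ r ∈ Psub V, e * r = r * e → r₀ * r = r * r₀ := by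
        intro r hr her
        have hrb : tw b r ∈ V := tw_mem hT hbP hr
        have h1 : (e * b * e⁻¹) * r * (e * b * e⁻¹)⁻¹ = r * tw b r := by
          have hec' := Subgroup.mem_centralizer_iff.1 hec _ hrb
          calc (e * b * e⁻¹) * r * (e * b * e⁻¹)⁻¹ = e * b * (e⁻¹ * r * e) * b⁻¹ * e⁻¹ := by group
            _ = e * (b * r * b⁻¹) * e⁻¹ := by rw [mul_assoc e⁻¹ r e, ← her, inv_mul_cancel_left]; group
            _ = (e * r) * tw b r * e⁻¹ := by rw [conj_eq_mul_tw b r]; group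
            _ = r * (e * tw b r) * e⁻¹ := by rw [her]; group
            _ = r * tw b r := by rw [← hec']; group
        refine tw_eq_one_iff.1 ?_
        rw [tw_mul_left hT hbP hebP hr]
        have h2 : tw (e * b * e⁻¹) r = tw b r := by rw [tw, h1, inv_mul_cancel_left]
        rw [h2, hT.elem _ hrb]
      have hr₀A : ∀ a ∈ A, r₀ * a = a * r₀ := fun a ha => hcr a (hAP ha) (heA a ha)
      have hW := mem_W_of_central hT hA hB hr₀P hr₀A fun r hr hra => hcr r hr (hcase r hr hra)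
      obtain ⟨a₀, ha₀, v₀', hv₀', hr₀⟩ := (mem_W_iff hT hA).1 hW
      have heb : e * b * e⁻¹ = b * (a₀ * v₀') := by
        rw [← hr₀]; simp [r₀, ← mul_assoc, tB.elem b hb]
      have hcom : a₀ * b = b * a₀ := by
        have h2 : (e * b * e⁻¹) * (e * b * e⁻¹) = 1 := by
          simp [mul_assoc, ← mul_assoc b b, tB.elem b hb]
        rw [heb] at h2
        have hv₀b : v₀' * b = b * v₀' := (Psub_le_centralizer hbP hv₀').symm
        have hv₀a : v₀' * a₀ = a₀ * v₀' := (Psub_le_centralizer (hAP ha₀) hv₀').symm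
        have h3 : b * a₀ * b * a₀ = 1 := by
          calc b * a₀ * b * a₀ = b * a₀ * b * a₀ * (v₀' * v₀') := by rw [hT.elem _ hv₀', mul_one]
            _ = b * a₀ * b * (a₀ * v₀') * v₀' := by group
            _ = b * a₀ * b * (v₀' * a₀) * v₀' := by rw [hv₀a]
            _ = b * a₀ * (b * v₀') * (a₀ * v₀') := by group
            _ = b * a₀ * (v₀' * b) * (a₀ * v₀') := by rw [hv₀b]
            _ = b * (a₀ * v₀') * (b * (a₀ * v₀')) := by group
            _ = 1 := h2
        calc a₀ * b = (b * a₀ * b * a₀) * (a₀ * b) := by rw [h3, one_mul]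
          _ = b * a₀ * b * (a₀ * a₀) * b := by group
          _ = b * a₀ := by rw [tA.elem a₀ ha₀, mul_one, mul_assoc, tB.elem b hb, mul_one]
      have hebV : tw e b ∈ V := by
        rcases eq_or_ne b 1 with rfl | hb1
        · simp [tw]
        rcases eq_or_ne a₀ 1 with h | h
        · rw [tw, heb, h, one_mul, inv_mul_cancel_left]; exact hv₀'
        · exact absurd hcom (hB.not_comm hT hA ha₀ h hb hb1)
      have hpbP := (Psub V).mul_mem hp hbP
      have hepb := hcase _ hpbP hbc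
      have key : tw e p = b * (tw e b)⁻¹ * b⁻¹ := by
        have : e * p = p * b * (e * b⁻¹) := by
          rw [← mul_assoc, ← hepb]; group
        calc tw e p = p⁻¹ * (e * p) * e⁻¹ := by simp [tw, mul_assoc]
          _ = b * (e * b⁻¹ * e⁻¹) := by rw [this]; group
          _ = b * (tw e b)⁻¹ * b⁻¹ := by simp [tw, mul_assoc]
      rw [key, Psub_le_centralizer hbP (V.inv_mem hebV), mul_inv_cancel_right]
      exact V.inv_mem hebV
    have heA' := hR1 e heP heA he.1
    refine hkey x (hPAN hxP) e heA' (fun he1 => hxV ?_) v' hv ?_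
    · refine hT.ti x v' hv hv1' ?_
      rw [hce, he1, mul_one]; exact hv
    · rw [← hVA v' hv e heA', ← hce]; exact conj_mem_cj hv
  · simp only [not_forall, exists_prop] at hcase
    obtain ⟨r, hr, hra, her⟩ := hcase
    have h1 : e * (r * e * r⁻¹) ∈ A := by
      refine hR1 _ ?_ ?_ ((Psub A).mul_mem he.1 (hPAn r (hR r hr hra) e he.1))
      · have := (Psub V).mul_mem (Psub_normal he.2 hr) ((Psub V).inv_mem hr)
        rw [hei] at this
        simpa [mul_assoc] using this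
      · intro a ha
        exact (Commute.mul_left (heA a ha)
          ((Commute.mul_left (hra a ha) (heA a ha)).mul_left (show Commute r a from hra a ha).inv_left)).eq
    have hne : e * (r * e * r⁻¹) ≠ 1 := by
      intro h
      apply her
      have h2 : r * e * r⁻¹ = e := by
        rw [← hei]; exact eq_inv_of_mul_eq_one_right (by rw [hei]; exact h)
      exact (mul_inv_eq_iff_eq_mul.1 h2).symm
    refine hkey (x⁻¹ * r * x) (mul_mem (mul_mem hxi (hR r hr hra)) (hPAN hxP)) _ h1 hne v' hv ?_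
    set a'' := e * (r * e * r⁻¹) with ha''
    have hrv : r * v' * r⁻¹ = v' := by
      rw [Psub_le_centralizer hr hv, mul_inv_cancel_right]
    have h3 : r * (x * v' * x⁻¹) * r⁻¹ = (x * v' * x⁻¹) * a'' := by
      calc r * (x * v' * x⁻¹) * r⁻¹ = (r * v' * r⁻¹) * (r * e * r⁻¹) := by rw [hce]; group
        _ = v' * (e * e) * (r * e * r⁻¹) := by rw [hrv, he2, mul_one]
        _ = (x * v' * x⁻¹) * a'' := by rw [hce, ha'']; group
    have h4 : (x⁻¹ * r * x) * v' * (x⁻¹ * r * x)⁻¹ = a'' * v' := by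
      calc (x⁻¹ * r * x) * v' * (x⁻¹ * r * x)⁻¹ = x⁻¹ * (r * (x * v' * x⁻¹) * r⁻¹) * x := by group
        _ = v' * (x⁻¹ * a'' * x) := by rw [h3]; group
        _ = v' * a'' := by rw [mul_assoc x⁻¹, ← hxA a'' h1, inv_mul_cancel_left]
        _ = a'' * v' := hVA v' hv a'' h1
    rw [← h4]; exact conj_mem_cj hv

/-- The partner relation seen from `A`. -/
theorem mem_symm (hA : Mem V A) : Mem A V := by
  refine ⟨?_, hA.ne.symm, le_Qsub_symm hT hA⟩
  obtain ⟨x, rfl⟩ := hA.conj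
  exact ⟨x⁻¹, by rw [cj_cj, inv_mul_cancel, cj_one]⟩

/-- An element of `Psub V` other than the identity moves a nontrivial `v` of `V` to a nontrivial
`a` of `A` and back. -/
theorem exists_move (hA : Mem V A) (hB : Partner V A B) {B' : Subgroup G} (hB' : Partner A V B')
    {a v : G} (ha : a ∈ A) (ha1 : a ≠ 1) (hv : v ∈ V) (hv1 : v ≠ 1) :
    ∃ h : G, h * v * h⁻¹ = a ∧ h * a * h⁻¹ = v := by
  have tA := hT.of_isC hA.conj
  have hAV := mem_symm hT hA
  obtain ⟨b, hb, hbv⟩ := hB.exists_tw hT hA ha ha1 hv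
  obtain ⟨b', hb', hb'v⟩ := hB'.exists_tw tA hAV hv hv1 ha
  have tB := hT.of_isC hB.conj
  have e1 : b * a * b⁻¹ = a * v := by rw [conj_eq_mul_tw, hbv]
  have e2 : b' * v * b'⁻¹ = v * a := by rw [conj_eq_mul_tw, hb'v]
  have e3 : b * v * b⁻¹ = v := by rw [Psub_le_centralizer (hB.le hb) hv, mul_inv_cancel_right]
  have e4 : b' * a * b'⁻¹ = a := by rw [Psub_le_centralizer (hB'.le hb') ha, mul_inv_cancel_right]
  have hav : a * v = v * a := Psub_le_centralizer (hA.le_Psub hT ha) hv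
  refine ⟨b * b' * b, ?_, ?_⟩
  · calc b * b' * b * v * (b * b' * b)⁻¹ = b * (b' * (b * v * b⁻¹) * b'⁻¹) * b⁻¹ := by group
      _ = b * (v * a) * b⁻¹ := by rw [e3, e2]
      _ = (b * v * b⁻¹) * (b * a * b⁻¹) := by group
      _ = v * (v * a) := by rw [e3, e1, hav]
      _ = a := by rw [← mul_assoc, hT.elem v hv, one_mul]
  · calc b * b' * b * a * (b * b' * b)⁻¹ = b * (b' * (b * a * b⁻¹) * b'⁻¹) * b⁻¹ := by group
      _ = b * ((b' * a * b'⁻¹) * (b' * v * b'⁻¹)) * b⁻¹ := by rw [e1]; group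
      _ = b * (a * (v * a)) * b⁻¹ := by rw [e4, e2]
      _ = b * v * b⁻¹ := by rw [← hav, ← mul_assoc a a, tA.elem a ha, one_mul]
      _ = v := e3

theorem Psub_eq_Qsub (hA : Mem V A) : Psub V = Qsub V := by
  classical
  haveI : Fact (Nat.Prime 2) := ⟨Nat.prime_two⟩
  obtain ⟨B, hB⟩ := exists_partner hT hA
  have tA := hT.of_isC hA.conj
  obtain ⟨B', hB'⟩ := exists_partner tA (mem_symm hT hA)
  obtain ⟨⟨a, ha⟩, ha1⟩ := Subgroup.ne_bot_iff_exists_ne_one.1 tA.ne
  have ha1' : a ≠ 1 := fun h => ha1 (Subtype.ext h)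
  have hVQ : V ≤ Qsub V := (TI1786.le_Psub hT).trans inf_le_left
  haveI : Nontrivial ↥(Qsub V) := by
    obtain ⟨⟨v, hv⟩, hv1⟩ := Subgroup.ne_bot_iff_exists_ne_one.1 hT.ne
    exact ⟨⟨v, hVQ hv⟩, 1, fun h => hv1 (Subtype.ext (congrArg Subtype.val h : v = 1))⟩
  haveI := IsPGroup.center_nontrivial (Qsub_isPGroup V)
  obtain ⟨⟨⟨z, hzQ⟩, hzc⟩, hz1⟩ := exists_ne (1 : Subgroup.center ↥(Qsub V))
  have hz1' : z ≠ 1 := fun h => hz1 (Subtype.ext (Subtype.ext h))
  have hzall : ∀ q ∈ Qsub V, q * z = z * q := fun q hq =>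
    congrArg Subtype.val (Subgroup.mem_center_iff.1 hzc ⟨q, hq⟩)
  have hzV : z ∈ V := by
    refine Psub_center hT ⟨hzQ, Subgroup.mem_centralizer_iff.2 fun v hv => hzall v (hVQ hv)⟩
      fun p hp => hzall p hp.1
  refine le_antisymm inf_le_left fun q hq => ⟨hq, Subgroup.mem_centralizer_iff.2 fun v hv => ?_⟩
  rcases eq_or_ne v 1 with rfl | hv1
  · simp
  obtain ⟨h₁, h₁v, -⟩ := exists_move hT hA hB hB' ha ha1' hzV hz1'
  obtain ⟨h₂, -, h₂a⟩ := exists_move hT hA hB hB' ha ha1' hv hv1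
  have hv' : (h₂ * h₁) * z * (h₂ * h₁)⁻¹ = v := by
    rw [← h₂a, ← h₁v]; group
  have hm : h₂ * h₁ ∈ Subgroup.normalizer (V : Set G) := hT.ti _ z hzV hz1' (hv'.symm ▸ hv)
  have hq' : (h₂ * h₁)⁻¹ * q * (h₂ * h₁) ∈ Qsub V := by
    simpa using Qsub_normal (inv_mem hm) hq
  have h := congrArg (fun w => (h₂ * h₁) * w * (h₂ * h₁)⁻¹) (hzall _ hq')
  rw [← hv']
  simp only [mul_assoc, mul_inv_cancel_left, inv_mul_cancel_left, mul_inv_rev] at h ⊢
  simpa [mul_assoc] using h.symm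

end Cfsg.Agent.TI1786
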